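import Cfsg.Agent.Lib.TwistE6Five.Tables
import Cfsg.Agent.Lib.TwistE6Invol.Ambient
import Cfsg.Agent.Lib.ChevBlocks.Lead
import Cfsg.Agent.Lib.ChevSt.SLRoots

/-!
# Representatives, the endomorphism σ and torus centralisers in E₆ over a field of characteristic two

`Nw l` conjugates root elements exactly by the action of `l` on roots and depends only on that action;
`sg` is the endomorphism defining ²E₆.  `exists_form`: the shape of an element commuting with a toral
element whose trivial root values are those of the roots `rR`.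
-/

set_option autoImplicit false
set_option linter.unusedSectionVars false

namespace Cfsg.Agent.TwistE6Five

open Cfsg.Lie Cfsg.Lie.ChevalleyDatum Cfsg.Agent.Chev Cfsg.Agent.ChevBN Cfsg.Agent.ChevSt

theorem gE6 : Good chevE6 := Chev.DataE6.good

theorem wl_T (l : Word) {r : ℕ} (hr : r < chevE6.nroots) : ChevLang.wl chevE6 l r = wlT l r := (wl_eqT l hr).1

theorem wlT_lt (l : Word) {r : ℕ} (hr : r < chevE6.nroots) : wlT l r < chevE6.nroots := (wl_eqT l hr).2

theorem wlT_append (l l' : Word) (r : ℕ) : wlT (l ++ l') r = wlT l (wlT l' r) := by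
  simp [wlT, List.foldr_append]

theorem wlT_cons (i : Fin chevE6.rank) (l : Word) (r : ℕ) : wlT (i :: l) r = wT i.val (wlT l r) := rfl

theorem neg_eq {r : ℕ} (hr : r < chevE6.nroots) : chevE6.neg r = 71 - r := negT r hr

theorem pos_iff {r : ℕ} (hr : r < chevE6.nroots) : chevE6.IsPosRoot r ↔ 36 ≤ r := posT r hr

theorem rhoT_lt {r : ℕ} (hr : r < chevE6.nroots) : rhoT r < chevE6.nroots := (rhoT_eq r hr).2

variable {F : Type*} [Field F] [CharP F 2]

/-- A root element of E₆. -/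
abbrev X (r : ℕ) (t : F) : GL chevE6.Idx F := xg gE6 F r t

/-- The root group data of E₆. -/
abbrev Rd (F : Type*) [Field F] : RGD.RootData (GL chevE6.Idx F) (Fin chevE6.nroots) (Fin chevE6.rank) :=
  chevRGD gE6 rootsE6 F

/-- The representative of a word. -/
abbrev Nw (F : Type*) [Field F] (l : Word) : GL chevE6.Idx F := (Rd F).nw l

theorem Nw_append (l l' : Word) : Nw F (l ++ l') = Nw F l * Nw F l' := (Rd F).nw_append l l'

theorem neg_one_eq : (-1 : F) = 1 := CharTwo.neg_eq _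

theorem X_mul_self {r : ℕ} (hr : r < chevE6.nroots) (t : F) : X r t * X r t = 1 := by
  rw [X, xg_add gE6 hr, CharTwo.add_self_eq_zero, xg_zero]

theorem X_inv (r : ℕ) (t : F) : (X r t)⁻¹ = X r t := by rw [X, xg_inv, CharTwo.neg_eq]

theorem X_inj {r s : ℕ} (hr : r < chevE6.nroots) (hs : s < chevE6.nroots) {a b : F} (ha : a ≠ 0)
    (h : X r a = X s b) : r = s ∧ a = b := by
  obtain rfl := ChevOrder.xg_eq_xg gE6 hr hs ha h
  refine ⟨rfl, ?_⟩
  have : X r (a + -b) = 1 := by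
    simp only [X] at h ⊢
    rw [← xg_add gE6 hr, h, xg_add gE6 hr, add_neg_cancel, xg_zero]
  exact eq_of_add_neg_eq_zero (xg_eq_one gE6 hr this) |>.trans rfl

theorem X_commute {r s : ℕ} (hr : r < chevE6.nroots) (hs : s < chevE6.nroots)
    (hc : chevE6.commTerms r s = []) (hne : s ≠ 71 - r) (t u : F) : Commute (X r t) (X s u) :=
  TwistE6D4.commute_gx gE6 hr hs (by rw [neg_eq hr]; exact hne) hc t u

theorem ng_one (r : ℕ) : ng gE6 F r 1 = X r 1 * X (chevE6.neg r) 1 * X r 1 := by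
  rw [ng, inv_one, neg_one_eq]

theorem ng_inv_self (r : ℕ) : (ng gE6 F r 1)⁻¹ = ng gE6 F r 1 := by rw [ng_inv, neg_one_eq]

theorem Nw_reverse (l : Word) : Nw F l.reverse = (Nw F l)⁻¹ := by
  induction l with
  | nil => simp [Nw]
  | cons i l ih =>
    rw [List.reverse_cons, Nw_append, ih]
    show (Nw F l)⁻¹ * (ng gE6 F (chevE6.simple i.val) 1 * 1) = (ng gE6 F (chevE6.simple i.val) 1 * Nw F l)⁻¹
    rw [mul_one, _root_.mul_inv_rev, ng_inv_self]

theorem wlT_reverse (l : Word) {r : ℕ} (hr : r < chevE6.nroots) :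
    wlT l.reverse (wlT l r) = r ∧ wlT l (wlT l.reverse r) = r := by
  have h := ChevInvolution.ww_reverse gE6 rootsE6 (F := ZMod 2) l ⟨r, hr⟩
  have key : ∀ (m : Word) (q : Fin chevE6.nroots), ((chevRGD gE6 rootsE6 (ZMod 2)).ww m q).val = wlT m q.val :=
    fun m q => (ChevLang.wl_eq gE6 rootsE6 m q).trans (wl_T m q.isLt)
  exact ⟨by simpa only [key] using congrArg Fin.val h.1, by simpa only [key] using congrArg Fin.val h.2⟩

theorem ww_val (l : Word) (q : Fin chevE6.nroots) : ((Rd F).ww l q).val = wlT l q.val :=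
  (ChevLang.wl_eq gE6 rootsE6 l q).trans (wl_T l q.isLt)

theorem Nw_conj (l : Word) {r : ℕ} (hr : r < chevE6.nroots) (t : F) :
    Nw F l * X r t * (Nw F l)⁻¹ = X (wlT l r) t := by
  rw [Nw, X, ChevInvolution.nw_conj_xg gE6 rootsE6 l ⟨r, hr⟩ t, ww_val]

/-- Diagonal elements with the same action on the positive root elements are equal. -/
theorem diag_ext {a b : GL chevE6.Idx F} (ha : a ∈ chevE6.diagonalSubgroup F)
    (hb : b ∈ chevE6.diagonalSubgroup F)
    (h : ∀ r < chevE6.nroots, a * X r 1 * a⁻¹ = b * X r 1 * b⁻¹) : a = b := by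
  refine (inv_mul_eq_one.1 ?_).symm
  refine ChevBlocks.eq_one_of_commute_pos gE6 rootsE6 (mul_mem (inv_mem hb) ha) fun r hr => ?_
  calc b⁻¹ * a * X r 1 = b⁻¹ * (a * X r 1 * a⁻¹) * a := by group
    _ = X r 1 * (b⁻¹ * a) := by rw [h r hr.1]; group

theorem Nw_eq {l l' : Word} (h : ∀ r < chevE6.nroots, wlT l r = wlT l' r) : Nw F l = Nw F l' := by
  have hid : ∀ r < chevE6.nroots, wlT (l'.reverse ++ l) r = r := fun r hr => by
    rw [wlT_append, h r hr, (wlT_reverse l' hr).1]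
  have hH : Nw F (l'.reverse ++ l) ∈ chevE6.diagonalSubgroup F := by
    refine (Rd F).mem_H_of_pos fun q hq => ?_
    show chevE6.IsPosRoot ((Rd F).ww (l'.reverse ++ l) q).val
    rw [ww_val, hid _ q.isLt]
    exact hq
  have h1 := diag_ext hH (one_mem _) fun r hr => by rw [Nw_conj _ hr, hid r hr]; simp
  rw [Nw_append, Nw_reverse, inv_mul_eq_one] at h1
  exact h1.symm

theorem wlT_eq_of_mem {l l' : Word} (h : (Nw F l)⁻¹ * Nw F l' ∈ chevE6.diagonalSubgroup F) {r : ℕ}
    (hr : r < chevE6.nroots) : wlT l' r = wlT l r := by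
  rw [← Nw_reverse, ← Nw_append] at h
  have h1 := congrArg Fin.val (ChevOrder.ww_eq_self gE6 rootsE6 h ⟨r, hr⟩)
  rw [ww_val, wlT_append] at h1
  have h2 := congrArg (wlT l) h1
  rwa [(wlT_reverse l (wlT_lt l' hr)).2] at h2

/-! ### σ -/

/-- The endomorphism defining ²E₆. -/
abbrev sg (F : Type*) [Field F] [CharP F 2] : GL chevE6.Idx F →* GL chevE6.Idx F :=
  TwistE6D4.sigma TwistE6D4.e6Twist_ok (frobenius F 2)

theorem sg_X {r : ℕ} (hr : r < chevE6.nroots) (t : F) : sg F (X r t) = X (rhoT r) (t ^ 2) := by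
  rw [sg, X, TwistE6D4.xg_eq gE6, TwistE6D4.sigma_gx _ gE6 _ hr,
    TwistE6Invol.cast_eq_one (TwistE6D4.e6Twist_ok.eps_sq r hr), one_mul, frobenius_def, ← (rhoT_eq r hr).1]
  rfl

theorem sg_ng {r : ℕ} (hr : r < chevE6.nroots) (t : F) :
    sg F (ng gE6 F r t) = ng gE6 F (rhoT r) (t ^ 2) := by
  rw [ng, ng, map_mul, map_mul, sg_X hr, sg_X (gE6.neg_lt r hr), ← (rhoT_eq r hr).1,
    ← (rhoT_eq _ (gE6.neg_lt r hr)).1, rho, rho, TwistE6D4.e6Twist_ok.rho_neg r hr]
  simp only [CharTwo.neg_eq, inv_pow]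

theorem simple_rho (i : Fin chevE6.rank) :
    rhoT (chevE6.simple i.val) = chevE6.simple (TwistE6D4.e6Twist.pi i).val := by
  rw [simpleT, simpleT]
  exact simple_rhoT i

theorem sg_Nw (l : Word) : sg F (Nw F l) = Nw F (piW l) := by
  induction l with
  | nil => simp [Nw, piW]
  | cons i l ih =>
    show sg F (ng gE6 F (chevE6.simple i.val) 1 * Nw F l) =
      ng gE6 F (chevE6.simple (TwistE6D4.e6Twist.pi i).val) 1 * Nw F (piW l)
    rw [map_mul, ih, sg_ng (gE6.simple_lt _ i.isLt), one_pow, simple_rho]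

theorem sg_diag {d : GL chevE6.Idx F} (hd : d ∈ chevE6.diagonalSubgroup F) :
    sg F d ∈ chevE6.diagonalSubgroup F := by
  refine Subgroup.closure_induction (p := fun d _ => sg F d ∈ chevE6.diagonalSubgroup F) ?_ ?_ ?_ ?_ hd
  · rintro g ⟨r, t, hr, ht, e⟩
    obtain rfl : g = hg gE6 F r t := Units.ext (e.trans (coe_hg gE6 r t).symm)
    rw [hg, map_mul, sg_ng hr, sg_ng hr]
    refine Subgroup.subset_closure ⟨rhoT r, t ^ 2, rhoT_lt hr, pow_ne_zero _ ht, ?_⟩
    rw [← coe_hg gE6, hg, neg_pow, neg_one_eq]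
    simp
  · rw [map_one]; exact one_mem _
  · intro a b _ _ ha hb; rw [map_mul]; exact mul_mem ha hb
  · intro a _ ha; rw [map_inv]; exact inv_mem ha

/-! ### Centralisers of toral elements -/

/-- The unipotent subgroup of the positive roots in `rR`. -/
abbrev UR (F : Type*) [Field F] : Subgroup (GL chevE6.Idx F) :=
  (ChevOrder.matSys chevE6 gE6 F).genBy {q | q ∈ rPos}

variable [Finite F]

/-- A unipotent element commuting with a toral element lies in the product of the root subgroups with value one. -/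
theorem mem_UR_of_commute {h : GL chevE6.Idx F} {χ : ℕ → Fˣ}
    (hscale : ∀ q < chevE6.nroots, ∀ u : F, h * X q u = X q ((χ q : F) * u) * h)
    (hker : ∀ q < chevE6.nroots, chevE6.IsPosRoot q → χ q = 1 → q ∈ rPos)
    {u : GL chevE6.Idx F} (hu : u ∈ chevE6.posUnipotent F) (hc : h * u = u * h) : u ∈ UR F := by
  have hxc : ∀ q < chevE6.nroots, ∀ t : F, h * X q t * h⁻¹ = X q ((χ q : F) * t) := fun q hq t => by
    rw [hscale q hq t, mul_inv_cancel_right]
  obtain ⟨o, ho⟩ := gE6.order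
  have hlin : IsLin chevE6 o := ⟨ho.add, ho.neg⟩
  suffices H : ∀ (m : ℕ) (T : Finset ℕ), T.card = m → (∀ q ∈ T, q < chevE6.nroots ∧ 0 < o q) →
      (∀ r ∈ T, ∀ s ∈ T, s ≠ r → ∀ τ ∈ chevE6.commTerms r s, τ.1 ∈ T) →
      ∀ g ∈ (ChevOrder.matSys chevE6 gE6 F).genBy (T : Set ℕ), h * g * h⁻¹ = g → g ∈ UR F by
    set A := (Finset.range chevE6.nroots).filter fun r => chevE6.IsPosRoot r with hA
    have hmem : ∀ r, r ∈ A ↔ r < chevE6.nroots ∧ 0 < o r := fun r => by
      simp only [hA, Finset.mem_filter, Finset.mem_range]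
      exact and_congr_right fun hr => ho.pos_iff r hr
    refine H _ A rfl (fun q hq => (hmem q).1 hq) ?_ u ?_ (by rw [hc, mul_inv_cancel_right])
    · intro r hr s hs hne' τ hτ
      obtain ⟨hr1, hr2⟩ := (hmem r).1 hr
      obtain ⟨hs1, hs2⟩ := (hmem s).1 hs
      have h₂ : s ≠ chevE6.neg r := by rintro rfl; rw [hlin.neg r hr1] at hs2; omega
      obtain ⟨h3, h4, h5, h6⟩ := hlin.commTerms gE6 hr1 hs1 hne' h₂ hτ
      exact (hmem _).2 ⟨h3, by rw [h6]; positivity⟩
    · refine Subgroup.closure_mono ?_ hu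
      rintro g ⟨r, t, hr, hg⟩
      exact ⟨r, (hmem r).2 ⟨hr.1, (ho.pos_iff r hr.1).1 hr⟩, t, Units.ext hg⟩
  intro m
  induction m with
  | zero =>
    intro T hT _ _ g hg _
    rw [Finset.card_eq_zero] at hT
    subst hT
    have : g = 1 := by simpa [Sys.genBy] using hg
    rw [this]; exact one_mem _
  | succ m ih =>
    intro T hT hpos hclosed g hg hfg
    obtain ⟨k, hk, hT'card, hclosed', -, hdec, huniq, -, -⟩ :=
      ChevFixed.genBy_step (F := F) gE6 hlin hT hpos hclosed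
    obtain ⟨t, g', hg', rfl⟩ := hdec g hg
    have hconj : ∀ a ∈ (ChevOrder.matSys chevE6 gE6 F).genBy (T.erase k : Set ℕ),
        h * a * h⁻¹ ∈ (ChevOrder.matSys chevE6 gE6 F).genBy (T.erase k : Set ℕ) := by
      intro a ha
      induction ha using Subgroup.closure_induction with
      | mem z hz =>
        obtain ⟨q, hq, v, rfl⟩ := hz
        show h * X q v * h⁻¹ ∈ _
        rw [hxc q (hpos q (Finset.mem_of_mem_erase hq)).1]
        exact (ChevOrder.matSys chevE6 gE6 F).x_mem_genBy hq _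
      | one => rw [mul_one, mul_inv_cancel]; exact one_mem _
      | mul a b _ _ ha hb =>
        rw [show h * (a * b) * h⁻¹ = (h * a * h⁻¹) * (h * b * h⁻¹) by group]
        exact mul_mem ha hb
      | inv a _ ha =>
        rw [show h * a⁻¹ * h⁻¹ = (h * a * h⁻¹)⁻¹ by group]
        exact inv_mem ha
    have e : X k ((χ k : F) * t) * (h * g' * h⁻¹) = X k t * g' := by
      rw [← hxc k (hpos k hk).1]
      conv_rhs => rw [← hfg]
      group
    obtain ⟨e1, e2⟩ := huniq _ _ _ (hconj g' hg') g' hg' e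
    refine mul_mem ?_ (ih (T.erase k) hT'card (fun q hq => hpos q (Finset.mem_of_mem_erase hq)) hclosed' g' hg' e2)
    by_cases ht : t = 0
    · subst ht; rw [xg_zero]; exact one_mem _
    · have hχ : χ k = 1 := Units.ext (mul_right_cancel₀ ht (e1.trans (one_mul t).symm))
      exact (ChevOrder.matSys chevE6 gE6 F).x_mem_genBy (T := {q | q ∈ rPos})
        (hker k (hpos k hk).1 ((ho.pos_iff k (hpos k hk).1).2 (hpos k hk).2) hχ) t

/-- The shape of an element commuting with a toral element whose trivial values are those of `rR`. -/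
theorem exists_form {h : GL chevE6.Idx F} (hh : h ∈ chevE6.diagonalSubgroup F) {χ : ℕ → Fˣ}
    (hscale : ∀ q < chevE6.nroots, ∀ u : F, h * X q u = X q ((χ q : F) * u) * h)
    (hker : ∀ q < chevE6.nroots, chevE6.IsPosRoot q → χ q = 1 → q ∈ rPos)
    {g : GL chevE6.Idx F} (hg : g ∈ chevE6.group F) (hc : g * h = h * g) :
    ∃ u ∈ UR F, ∃ t ∈ chevE6.diagonalSubgroup F, ∃ l : Word, ∃ v ∈ UR F,
      g = u * t * Nw F l * v ∧ ∀ r < chevE6.nroots, χ (wlT l r) = χ r := by
  let R := Rd F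
  have hU : ∀ u ∈ chevE6.posUnipotent F, h * u = u * h → u ∈ UR F := fun u hu hcu =>
    mem_UR_of_commute hscale hker hu hcu
  rw [← chev_G gE6 rootsE6] at hg
  obtain ⟨b, hb, l, u, hu, rfl⟩ := R.exists_normalForm hg
  have hhH : h ∈ R.H := hh
  set m := R.nw l * h⁻¹ * (R.nw l)⁻¹ with hm
  have hmH : m ∈ R.H := R.nw_conj_H l (inv_mem hhH)
  have hconj : h * u * h⁻¹ ∈ R.Uminus l := R.H_conj_span _ hhH _ hu
  have e : b * R.nw l * u = h * b * m * R.nw l * (h * u * h⁻¹) := by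
    calc b * R.nw l * u = h * (b * R.nw l * u) * h⁻¹ := by rw [← hc, mul_inv_cancel_right]
      _ = _ := by rw [hm]; group
  obtain ⟨ebb, euu⟩ := R.normalForm_unique (k := 1) (one_mem _) (one_mul _).symm hb
    (mul_mem (mul_mem (R.H_le_B hhH) hb) (R.H_le_B hmH)) hu hconj e
  have huR : u ∈ UR F := by
    refine hU u ?_ (eq_mul_inv_iff_mul_eq.1 euu).symm
    rw [← chev_Upos gE6 rootsE6 (F := F)]
    exact R.Uminus_le_Upos l hu
  obtain ⟨v, hv, t, ht, rfl⟩ := R.exists_B hb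
  have hv1 : (h * v * h⁻¹) * (h * t * m) = v * t := by
    rw [ebb]; group
  have hvU : h * v * h⁻¹ ∈ R.Upos := R.H_conj_span _ hhH _ hv
  have h2 : v⁻¹ * (h * v * h⁻¹) = t * (h * t * m)⁻¹ := by
    rw [inv_mul_eq_iff_eq_mul, ← mul_assoc, ← hv1, mul_inv_cancel_right]
  have h3 : v⁻¹ * (h * v * h⁻¹) = 1 := by
    rw [← Subgroup.mem_bot, ← R.U_inf_H]
    exact ⟨R.Upos.mul_mem (R.Upos.inv_mem hv) hvU,
      h2 ▸ R.H.mul_mem ht (R.H.inv_mem (R.H.mul_mem (R.H.mul_mem hhH ht) hmH))⟩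
  have hvR : v ∈ UR F := by
    refine hU v ?_ ?_
    · rw [← chev_Upos gE6 rootsE6 (F := F)]; exact hv
    · exact (eq_mul_inv_iff_mul_eq.1 (inv_mul_eq_one.1 h3)).symm
  rw [h3] at h2
  refine ⟨v, hvR, t, ht, l, u, huR, rfl, fun r hr => ?_⟩
  have e1 : t = h * t * m := mul_inv_eq_one.1 h2.symm
  rw [show h * t = t * h from diag_commute gE6 hhH ht, mul_assoc, left_eq_mul] at e1
  have e2 : R.nw l * h * (R.nw l)⁻¹ = h := by
    have : h * (R.nw l * h⁻¹ * (R.nw l)⁻¹) = 1 := e1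
    calc R.nw l * h * (R.nw l)⁻¹ = (R.nw l * h⁻¹ * (R.nw l)⁻¹)⁻¹ := by group
      _ = h := inv_eq_of_mul_eq_one_left this
  have hw := wlT_lt l hr
  have h4 : X (wlT l r) ((χ (wlT l r) : F) * 1) = X (wlT l r) (χ r : F) := by
    have hs : ∀ q < chevE6.nroots, ∀ w : F, h * X q w * h⁻¹ = X q ((χ q : F) * w) := fun q hq w => by
      rw [hscale q hq w, mul_inv_cancel_right]
    rw [← hs _ hw, ← Nw_conj l hr 1]
    calc h * (Nw F l * X r 1 * (Nw F l)⁻¹) * h⁻¹
        = (R.nw l * h * (R.nw l)⁻¹) * (Nw F l * X r 1 * (Nw F l)⁻¹) *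
            (R.nw l * h * (R.nw l)⁻¹)⁻¹ := by rw [e2]
      _ = Nw F l * (h * X r 1 * h⁻¹) * (Nw F l)⁻¹ := by simp only [R, Nw]; group
      _ = _ := by rw [hs r hr, mul_one, Nw_conj l hr]
  exact Units.ext (by simpa using (X_inj hw hw (by simp) h4).2)

end Cfsg.Agent.TwistE6Five
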