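import Cfsg.Agent.Lib.TwistE6Five.Elements

/-!
# The centraliser of an element of order five in ²E₆(2)

`exists_decomp`: an element of the twisted group commuting with `el 1 0` is the product of one of its powers and
an element of `L16` fixed by σ.
-/

set_option autoImplicit false
set_option linter.unusedSectionVars false
set_option maxRecDepth 100000

namespace Cfsg.Agent.TwistE6Five

open Cfsg.Lie Cfsg.Lie.ChevalleyDatum Cfsg.Agent.Chev Cfsg.Agent.ChevBN Matrix
open Cfsg.Agent.TwistE6D4 (theta chiX e6Twist)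

/-- The coefficients defining the invariant modulo three. -/
def mB (b : Fin 6) : ℤ := ![-2, 0, 2, 4, -2, 2] b

/-- The members of `basis6`. -/
def b6 (b : Fin 6) : ℕ := ![56, 37, 42, 60, 53, 46] b

theorem b6_lt : ∀ b, b6 b < chevE6.nroots := by decide +kernel

theorem co_rC : ∀ k : Fin chevE6.rank, (coT 46 k.val, coT 60 k.val, coT 53 k.val) =
    v6 ![((0 : ℤ), (1 : ℤ), (0 : ℤ)), (1, 0, 1), (0, 1, 1), (0, 1, 2), (0, 1, 1), (0, 1, 0)] k := by decide +kernel

theorem pr_rC : ∀ i : Fin 4, (prT 46 (sS i), prT 60 (sS i), prT 53 (sS i)) =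
    ![((1 : ℤ), (0 : ℤ), (0 : ℤ)), (-1, 1, 0), (0, -1, 1), (0, 0, -1)] i := by decide +kernel

theorem rC_roots : 46 ∈ rR ∧ 60 ∈ rR ∧ 53 ∈ rR := by decide +kernel

/-! ### The stabiliser of the exponents -/

theorem invT_map (f : ℕ → ℕ) (k : Fin chevE6.rank) :
    invT (basis6.map f) k = ∑ b : Fin 6, (mB b : ZMod 3) * (coT (f (b6 b)) k.val : ZMod 3) := by
  simp [invT, basis6, Fin.sum_univ_six, mB, b6]
  ring

theorem invT_inv (l : Word) (k : Fin chevE6.rank) : invT (basis6.map (wlT l)) k = radV k := by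
  induction l generalizing k with
  | nil => rw [show basis6.map (wlT []) = basis6 from List.map_id _]; exact radV_basis k
  | cons i l ih =>
    have hlt : ∀ b, wlT l (b6 b) < chevE6.nroots := fun b => wlT_lt l (b6_lt b)
    have hS : ∑ b : Fin 6, (mB b : ZMod 3) * (caT i.val (wlT l (b6 b)) : ZMod 3) = 0 := by
      calc ∑ b : Fin 6, (mB b : ZMod 3) * (caT i.val (wlT l (b6 b)) : ZMod 3)
          = ∑ k : Fin chevE6.rank, (∑ b : Fin 6, (mB b : ZMod 3) * (coT (wlT l (b6 b)) k.val : ZMod 3)) *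
              (caT i.val (([56, 46, 42, 39, 37, 36] : List ℕ).getD k.val 0) : ZMod 3) := by
            simp only [Finset.sum_mul]
            rw [Finset.sum_comm]
            refine Finset.sum_congr rfl fun b _ => ?_
            rw [caT_sum i _ (hlt b), Int.cast_sum, Finset.mul_sum]
            exact Finset.sum_congr rfl fun k _ => by rw [Int.cast_mul, mul_assoc]
        _ = _ := by
            rw [← radV_rad i]
            exact Finset.sum_congr rfl fun k _ => by rw [← invT_map, ih k]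
    rw [invT_map, ← ih k, invT_map]
    simp only [wlT_cons, fun b : Fin 6 => wT_coT i _ (hlt b) k]
    by_cases hk : k = i
    · simp only [if_pos hk, Int.cast_sub, mul_sub, Finset.sum_sub_distrib, hS, sub_zero]
    · simp only [if_neg hk, sub_zero]

theorem map_mem_stab (l : Word) (h : ∀ r < chevE6.nroots, e1 (wlT l r) % 5 = e1 r % 5) :
    ∀ bs : List ℕ, (∀ b ∈ bs, b < chevE6.nroots) → bs.map (wlT l) ∈ stab bs
  | [], _ => by simp [stab]
  | b :: bs, hb => by
    rw [stab, List.mem_flatMap]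
    refine ⟨bs.map (wlT l), map_mem_stab l h bs fun x hx => hb x (List.mem_cons_of_mem _ hx), ?_⟩
    rw [List.mem_map]
    refine ⟨wlT l b, ?_, rfl⟩
    have hbl := hb b List.mem_cons_self
    simp only [List.mem_filter, List.mem_range, Bool.and_eq_true, decide_eq_true_eq]
    refine ⟨wlT_lt l hbl, h b hbl, ?_⟩
    rw [List.map_map]
    exact List.map_congr_left fun x hx => prT_wlT l hbl (hb x (List.mem_cons_of_mem _ hx))

/-- A word preserving the exponents acts as an element of the Weyl group of `rR`. -/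
theorem exists_seqW (l : Word) (h : ∀ r < chevE6.nroots, e1 (wlT l r) % 5 = e1 r % 5) :
    ∃ s, ∀ r < chevE6.nroots, wlT l r = wlT (seqW s) r := by
  obtain ⟨s, -, e⟩ := stab_sub _ (map_mem_stab l h basis6 basis6_lt) (invT_inv l)
  refine ⟨s, fun r hr => ?_⟩
  set w := seqW s
  have hw : ∀ b ∈ basis6, wlT l b = wlT w b := List.map_inj_left.1 e
  have hlr := wlT_lt l hr
  have key : wlT w.reverse (wlT l r) = r := by
    refine basis6_sepT _ (wlT_lt _ hlr) r hr (List.map_inj_left.2 fun b hb => ?_)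
    have hbl := basis6_lt b hb
    calc prT (wlT w.reverse (wlT l r)) b
        = prT (wlT w.reverse (wlT l r)) (wlT w.reverse (wlT l b)) := by
          rw [hw b hb, (wlT_reverse w hbl).1]
      _ = prT r b := by rw [prT_wlT _ hlr (wlT_lt l hbl), prT_wlT l hr hbl]
  have h2 := congrArg (wlT w) key
  rwa [(wlT_reverse w hlr).2] at h2

variable {F : Type*} [Field F] [CharP F 2] [Finite F]

/-! ### Diagonal elements of `L16` -/

/-- The toral parameters of the three fundamental coroots of `rR`. -/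
def rC (α β γ : Fˣ) : Fin chevE6.rank → Fˣ :=
  fun k => α ^ coT 46 k.val * β ^ coT 60 k.val * γ ^ coT 53 k.val

theorem theta_coroot {r : ℕ} (hr : r < chevE6.nroots) (α : Fˣ) :
    theta chevE6 F (fun k => α ^ coT r k.val) = hg gE6 F r (α : F) := by
  refine Units.ext ?_
  rw [TwistE6D4.coe_theta, coe_hg, hMat_eq_diag gE6 hr α.ne_zero]
  congr 1
  funext s
  simp only [chiX, ← _root_.zpow_mul, Units.mk0_val]
  rw [TwistE6D4.zpow_sum, Chev.pairing_eq_sum]
  congr 1
  exact Finset.sum_congr rfl fun k _ => by rw [← coT_eq k r hr]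

theorem theta_rC_mem (α β γ : Fˣ) : theta chevE6 F (rC α β γ) ∈ L16 F := by
  have hh : ∀ r ∈ rR, ∀ t : F, hg gE6 F r t ∈ L16 F := by
    intro r hr t
    have hn : ∀ u : F, ng gE6 F r u ∈ L16 F := fun u => by
      rw [ng]
      exact mul_mem (mul_mem (X_mem_L16 hr _) (X_mem_L16 (neg_eq (rR_lt r hr) ▸ (rR_rhoT r hr).2) _))
        (X_mem_L16 hr _)
    exact mul_mem (hn _) (hn _)
  obtain ⟨h1, h2, h3⟩ := rC_roots
  have e : rC α β γ = (fun k : Fin chevE6.rank => α ^ coT 46 k.val) * (fun k : Fin chevE6.rank => β ^ coT 60 k.val) *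
      (fun k : Fin chevE6.rank => γ ^ coT 53 k.val) := rfl
  rw [e, map_mul, map_mul, theta_coroot (rR_lt _ h1), theta_coroot (rR_lt _ h2), theta_coroot (rR_lt _ h3)]
  exact mul_mem (mul_mem (hh _ h1 _) (hh _ h2 _)) (hh _ h3 _)

theorem chiX_rC (α β γ : Fˣ) {s : ℕ} (hs : s < chevE6.nroots) :
    chiX (rC α β γ) s = α ^ prT 46 s * β ^ prT 60 s * γ ^ prT 53 s := by
  obtain ⟨h1, h2, h3⟩ := rC_roots
  simp only [chiX, rC, _root_.mul_zpow, ← _root_.zpow_mul, Finset.prod_mul_distrib, TwistE6D4.zpow_sum]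
  rw [← prT_eq (rR_lt _ h1) hs, ← prT_eq (rR_lt _ h2) hs, ← prT_eq (rR_lt _ h3) hs, Chev.pairing_eq_sum,
    Chev.pairing_eq_sum, Chev.pairing_eq_sum]
  congr 2

theorem rhoM_theta (d : Fin chevE6.rank → Fˣ) :
    rhoM (theta chevE6 F d) = Matrix.diagonal fun i => ((chiX d (sS i) : Fˣ) : F) := by
  ext i j
  show (theta chevE6 F d : Matrix chevE6.Idx chevE6.Idx F) (sI i) (sI j) = _
  rw [TwistE6D4.coe_theta, dg]
  by_cases h : i = j
  · subst h; simp [sI]
  · rw [Matrix.diagonal_apply_ne _ h, Matrix.diagonal_apply_ne _ (sI_inj.ne h)]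

/-- A diagonal element of `L16` lies in the torus of `rR`. -/
theorem diag_L16 {ζ : Fˣ} (hζ : orderOf ζ = 5) {d : Fin chevE6.rank → Fˣ} (h : theta chevE6 F d ∈ L16 F) :
    ∃ α β γ : Fˣ, theta chevE6 F d = theta chevE6 F (rC α β γ) := by
  set w : Fin 4 → Fˣ := fun i => chiX d (sS i) with hw
  have hdet : w 0 * w 1 * w 2 * w 3 = 1 := by
    have h1 := det_rhoM h
    rw [rhoM_theta, Matrix.det_diagonal, Fin.prod_univ_four] at h1
    exact Units.ext (by simpa [hw] using h1)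
  refine ⟨w 0, w 0 * w 1, w 0 * w 1 * w 2, L16_ext hζ h (theta_rC_mem _ _ _) ?_⟩
  rw [rhoM_theta, rhoM_theta]
  congr 1
  funext i
  congr 1
  show w i = _
  rw [chiX_rC _ _ _ (sS_lt i)]
  have hp := pr_rC i
  have h3 : w 3 = (w 0 * w 1 * w 2)⁻¹ := eq_inv_of_mul_eq_one_right hdet
  fin_cases i <;> simp at hp <;> obtain ⟨e1, e2, e3⟩ := hp <;> simp [e1, e2, e3, h3] <;>
    (try simp [mul_assoc, mul_comm, mul_left_comm])

theorem theta_conj_L16 (c : Fin chevE6.rank → Fˣ) {l : GL chevE6.Idx F} (hl : l ∈ L16 F) :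
    theta chevE6 F c * l * (theta chevE6 F c)⁻¹ ∈ L16 F := by
  refine L16_induction (P := fun l => theta chevE6 F c * l * (theta chevE6 F c)⁻¹ ∈ L16 F)
    (by simp [one_mem]) (fun r hr t => ?_) (fun a _ b _ pa pb => ?_) hl
  · show theta chevE6 F c * X r t * (theta chevE6 F c)⁻¹ ∈ L16 F
    rw [X, TwistE6D4.xg_eq gE6, TwistE6D4.theta_conj_gx gE6 _ (rR_lt r hr), ← TwistE6D4.xg_eq gE6]
    exact X_mem_L16 hr _
  · show theta chevE6 F c * (a * b) * (theta chevE6 F c)⁻¹ ∈ L16 F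
    rw [show theta chevE6 F c * (a * b) * (theta chevE6 F c)⁻¹ =
      (theta chevE6 F c * a * (theta chevE6 F c)⁻¹) * (theta chevE6 F c * b * (theta chevE6 F c)⁻¹) by group]
    exact mul_mem pa pb

/-- A kernel element of the toral parametrisation. -/
theorem theta_kerV {a : Fˣ} (ha : a ^ 3 = 1) : theta chevE6 F (v6 ![a, 1, a * a, 1, a, a * a]) = 1 := by
  refine (TwistE6D4.mem_ker_theta gE6 TwistE6D4.e6_cartan _).2 fun i => ?_
  show ∏ j : Fin 6, (![a, 1, a * a, 1, a, a * a] j) ^ chevE6.cartan j.val (chevE6.simple i.val) = 1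
  simp only [fun j : Fin 6 => TwistE6D4.e6_cartan_simple i j]
  have h3 : a * a * a = 1 := by rw [← ha, pow_succ, pow_two]
  have hinv : a⁻¹ = a * a := inv_eq_of_mul_eq_one_right (by rw [← mul_assoc, h3])
  have key : ∀ i : Fin 6, ∏ j : Fin 6, (![a, 1, a * a, 1, a, a * a] j) ^
      ((([[2, 0, -1, 0, 0, 0], [0, 2, 0, -1, 0, 0], [-1, 0, 2, -1, 0, 0], [0, -1, -1, 2, -1, 0],
        [0, 0, 0, -1, 2, -1], [0, 0, 0, 0, -1, 2]] : List (List ℤ)).getD i.val []).getD j.val 0) = 1 := by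
    intro i
    fin_cases i <;> simp [Fin.prod_univ_six, pow_two, hinv] <;>
      (try simp [← mul_assoc, h3])
  exact key i

/-! ### The decomposition -/

variable {ζ : Fˣ} (hζ : orderOf ζ = 5) (h15 : ∀ u : Fˣ, u ^ 15 = 1)
include hζ

theorem ev_scalar (i : ZMod 5) {r : ℕ} (hr : r < chevE6.nroots) : ev (vec i 0) r = i * (e1 r : ZMod 5) := by
  rw [ev_vec i 0 hr, eN, ZMod.natCast_mod, ZMod.val_zero, Nat.zero_mul, Nat.add_zero, Nat.cast_mul,
    ZMod.natCast_zmod_val]

theorem tor_scalar_commute (i : ZMod 5) {l : GL chevE6.Idx F} (hl : l ∈ L16 F) :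
    Commute l (tor ζ (vec i 0)) :=
  L16_commute hl fun r hr t => by
    have h := tor_conj hζ (vec i 0) (rR_lt r hr) t
    rw [ev_scalar hζ i (rR_lt r hr), ← ZMod.natCast_mod (e1 r), e1_R r hr, Nat.cast_zero, mul_zero, pz_zero hζ,
      Units.val_one, one_mul, mul_inv_eq_iff_eq_mul] at h
    exact h.symm

theorem el_scalar (i : ZMod 5) : el hζ i 0 = gg ζ * tor ζ (vec i 0) * (gg ζ)⁻¹ := by
  have h := (tor_scalar_commute hζ i (gR_mem hζ)).eq
  rw [el, g2, _root_.mul_inv_rev, mul_assoc (gg ζ), h]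
  group

theorem nA_sg_tor (i : ZMod 5) :
    Nw F wordA * sg F (tor ζ (vec i 0)) * (Nw F wordA)⁻¹ = tor ζ (vec i 0) := by
  refine Nw_sg_tor hζ wordA fun r hr => ?_
  rw [ev_scalar hζ i (wlT_lt _ (rhoT_lt hr)), ev_scalar hζ i hr, ← ZMod.natCast_mod (e1 (wlT wordA (rhoT r))),
    ex_fixT r hr, ZMod.natCast_mod, Nat.cast_mul, Nat.cast_ofNat, mul_left_comm]

include h15

/-- The torus equation: a solution is a power of the element of order five times an element of `rR`. -/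
theorem torus_solve {c : Fin chevE6.rank → Fˣ}
    (h : (theta chevE6 F c)⁻¹ * (Nw F wordA * sg F (theta chevE6 F c) * (Nw F wordA)⁻¹) ∈ L16 F) :
    ∃ i : ZMod 5, (tor ζ (vec i 0))⁻¹ * theta chevE6 F c ∈ L16 F := by
  set c' : Fin chevE6.rank → Fˣ := fun k => Units.map (frobenius F 2 : F →* F) (c (e6Twist.pi k)) with hc'
  set j : Fin chevE6.rank := (2 : Fin 6) with hj
  set c'' : Fin chevE6.rank → Fˣ := c' * Pi.mulSingle j (TwistE6D4.coefX j c') with hc''
  have hT : Nw F wordA * sg F (theta chevE6 F c) * (Nw F wordA)⁻¹ = theta chevE6 F c'' := by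
    rw [sg_theta c, hc'', ← TwistE6D4.ng_conj_theta gE6 j (one_ne_zero (α := F)) c']
    show ng gE6 F (chevE6.simple j.val) 1 * 1 * _ * (ng gE6 F (chevE6.simple j.val) 1 * 1)⁻¹ = _
    rw [mul_one]
  rw [hT, ← map_inv, ← map_mul] at h
  obtain ⟨α, β, γ, e⟩ := diag_L16 hζ h
  have hker : theta chevE6 F ((c * rC α β γ)⁻¹ * c'') = 1 := by
    rw [_root_.mul_inv, mul_right_comm, map_mul, e, ← map_mul, mul_inv_cancel, map_one]
  obtain ⟨k2, k3, k1, ka, k5, k4⟩ := theta_ker hker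
  set a := tup ((c * rC α β γ)⁻¹ * c'') 0 with ha
  -- the components
  have hC : ∀ k : Fin 6, tup (rC α β γ) k = ![β, α * γ, β * γ, β * (γ * γ), β * γ, β] k := by
    intro k
    have hk := co_rC k
    simp only [Prod.ext_iff] at hk
    obtain ⟨e1, e2, e3⟩ := hk
    show α ^ coT 46 k.val * β ^ coT 60 k.val * γ ^ coT 53 k.val = _
    rw [e1, e2, e3]
    fin_cases k <;> simp [v6, pow_two]
  have hsq : ∀ k : Fin 6, tup c' k = ![tup c 5 * tup c 5, tup c 1 * tup c 1, tup c 4 * tup c 4,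
      tup c 3 * tup c 3, tup c 2 * tup c 2, tup c 0 * tup c 0] k := by
    intro k
    refine Units.ext ?_
    show ((c (e6Twist.pi k) : Fˣ) : F) ^ 2 = _
    fin_cases k <;> simp [sq] <;> rfl
  have hcoef : TwistE6D4.coefX j c' = tup c' 0 * (tup c' 2)⁻¹ * (tup c' 2)⁻¹ * tup c' 3 := by
    show ∏ m : Fin 6, (tup c' m) ^ (-chevE6.cartan m.val (chevE6.simple (2 : Fin 6).val)) = _
    simp only [fun m : Fin 6 => TwistE6D4.e6_cartan_simple 2 m]
    simp [Fin.prod_univ_six, pow_two, _root_.mul_inv, mul_assoc, mul_comm, mul_left_comm]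
  have hne : ∀ k : Fin 6, k ≠ 2 → tup c'' k = tup c' k := fun k hk => by
    show c' k * (Pi.mulSingle j (TwistE6D4.coefX j c') : Fin chevE6.rank → Fˣ) k = c' k
    exact (congrArg (c' k * ·) (Pi.mulSingle_eq_of_ne (i := j) (i' := k) hk _)).trans (mul_one _)
  have h2' : tup c'' 2 = tup c' 0 * (tup c' 2)⁻¹ * tup c' 3 := by
    show c' j * (Pi.mulSingle j (TwistE6D4.coefX j c') : Fin chevE6.rank → Fˣ) j = _
    rw [Pi.mulSingle_eq_same, hcoef]
    show tup c' 2 * _ = _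
    rw [show tup c' 2 * (tup c' 0 * (tup c' 2)⁻¹ * (tup c' 2)⁻¹ * tup c' 3) =
      tup c' 0 * (tup c' 2)⁻¹ * tup c' 3 * (tup c' 2 * (tup c' 2)⁻¹) by ac_rfl, mul_inv_cancel, mul_one]
  have heq : ∀ (k : Fin 6) (v : Fˣ), tup ((c * rC α β γ)⁻¹ * c'') k = v →
      tup c'' k = tup c k * tup (rC α β γ) k * v := fun k v hv =>
    eq_mul_of_inv_mul_eq hv
  have q0 := heq 0 a rfl
  have q1 := heq 1 1 k1
  have q2 := heq 2 (a * a) k2
  have q3 := heq 3 1 k3
  have q4 := heq 4 a k4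
  have q5 := heq 5 (a * a) k5
  rw [hne 0 (by decide), hsq, hC] at q0
  rw [hne 1 (by decide), hsq, hC] at q1
  rw [h2', hsq, hsq, hsq, hC] at q2
  rw [hne 3 (by decide), hsq, hC] at q3
  rw [hne 4 (by decide), hsq, hC] at q4
  rw [hne 5 (by decide), hsq, hC] at q5
  simp only [Matrix.cons_val, mul_one] at q0 q1 q2 q3 q4 q5
  set c0 := tup c 0 with hc0
  set c1 := tup c 1 with hc1
  set c2 := tup c 2 with hc2
  set c3 := tup c 3 with hc3
  set c4 := tup c 4 with hc4
  set c5 := tup c 5 with hc5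
  have e1 : c1 = α * γ := mul_left_cancel q1
  have e3 : c3 = β * (γ * γ) := mul_left_cancel q3
  set f := c0 * c5⁻¹ with hf
  have hf5 : f * c5 = c0 := inv_mul_cancel_right c0 c5
  have hf3 : f ^ 3 = a := by
    have h1 : f ^ 3 * (c5 * c5 * c5) = c0 * c0 * c0 := by
      rw [← hf5, pow_succ, pow_two]; ac_rfl
    rw [q5, show c5 * β * (a * a) * c0 = a * (c5 * (c0 * β * a)) by ac_rfl, ← q0,
      show a * (c5 * (c5 * c5)) = a * (c5 * c5 * c5) by ac_rfl] at h1
    exact mul_right_cancel h1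
  have ha3 : a ^ 3 = 1 := by rw [pow_succ, pow_two]; exact ka
  have ha1 : a = 1 := by
    have h9 : f ^ 9 = 1 := by rw [show (9 : ℕ) = 3 * 3 from rfl, pow_mul, hf3, ha3]
    have h6 : f ^ 6 = 1 := by
      have := h15 f
      rwa [show (15 : ℕ) = 9 + 6 from rfl, pow_add, h9, one_mul] at this
    rw [← hf3]
    rwa [show (9 : ℕ) = 6 + 3 from rfl, pow_add, h6, one_mul] at h9
  rw [ha1] at hf3 q0 q4 q2 q5
  simp only [mul_one] at q0 q4 q2 q5
  have hf3' : f * f * f = 1 := by rw [← hf3, pow_succ, pow_two]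
  -- the normalised parameters
  have d0 : c0 * f = β := by
    refine mul_left_cancel (a := c5) ?_
    rw [← q5, ← hf5]; ac_rfl
  set p := c2 * (f * f) * (β * γ)⁻¹ with hp
  have hp2 : p * (β * γ) = c2 * (f * f) := inv_mul_cancel_right _ _
  have hq : c4 * f = p * p * (β * γ) := by
    refine mul_right_cancel (b := β * γ) ?_
    calc c4 * f * (β * γ) = c2 * c2 * f := by rw [q4]; ac_rfl
      _ = c2 * (f * f) * (c2 * (f * f)) := by
          rw [show c2 * (f * f) * (c2 * (f * f)) = c2 * c2 * f * (f * f * f) by ac_rfl, hf3', mul_one]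
      _ = _ := by rw [← hp2]; ac_rfl
  have hp5 : p ^ 5 = 1 := by
    have q2' : c5 * c5 * (c3 * c3) = c2 * (β * γ) * (c4 * c4) := by
      rw [← q2]
      rw [show c5 * c5 * (c4 * c4)⁻¹ * (c3 * c3) * (c4 * c4) =
        c5 * c5 * (c3 * c3) * ((c4 * c4)⁻¹ * (c4 * c4)) by ac_rfl, inv_mul_cancel, mul_one]
    refine mul_right_cancel (b := β * γ * (β * γ) * (β * γ)) ?_
    rw [one_mul]
    calc p ^ 5 * (β * γ * (β * γ) * (β * γ))
        = p * (β * γ) * (p * p * (β * γ) * (p * p * (β * γ))) := by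
          simp only [pow_succ, pow_zero, one_mul]; ac_rfl
      _ = c2 * (f * f) * (c4 * f * (c4 * f)) := by rw [hp2, hq]
      _ = c2 * (c4 * c4) * f * (f * f * f) := by ac_rfl
      _ = β * γ * (β * γ) * (β * γ) := by
          rw [hf3', mul_one]
          refine mul_left_cancel (a := β * γ) ?_
          calc β * γ * (c2 * (c4 * c4) * f) = c2 * (β * γ) * (c4 * c4) * f := by ac_rfl
            _ = c0 * f * β * (c3 * c3) := by rw [← q2', q0]; ac_rfl
            _ = _ := by rw [d0, e3]; ac_rfl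
  obtain ⟨n, -, hn⟩ := (IsPrimitiveRoot.iff_orderOf.2 (by rw [orderOf_units, hζ]) :
    IsPrimitiveRoot (ζ : F) 5).eq_pow_of_pow_eq_one
      (ξ := (p : F)) (by rw [← Units.val_pow_eq_pow_val, hp5, Units.val_one])
  have hpz : pz ζ (n : ZMod 5) = p := by
    refine Units.ext ?_
    rw [pz, ZMod.val_natCast, ← hn, Units.val_pow_eq_pow_val, ← pow_eq_pow_mod _ (z_pow_five hζ)]
  refine ⟨(n : ZMod 5), ?_⟩
  have hcomp : c * v6 ![f, 1, f * f, 1, f, f * f] =
      (fun k => pz ζ (vec (n : ZMod 5) 0 k)) * rC α β γ := by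
    have h0 : pz ζ (0 : ZMod 5) = 1 := pz_zero hζ
    have h2 : pz ζ (2 * (n : ZMod 5)) = p * p := by rw [two_mul, pz_add hζ, hpz]
    have d5 : c5 * (f * f) = β := by rw [← d0, ← hf5]; ac_rfl
    have key : ∀ k : Fin 6, tup c k * (![f, 1, f * f, 1, f, f * f] k) =
        pz ζ ((![3 * 0, 3 * 0, (n : ZMod 5), 2 * 0, 2 * (n : ZMod 5), 3 * 0] : Fin 6 → ZMod 5) k) *
          tup (rC α β γ) k := by
      intro k
      rw [hC]
      fin_cases k <;>
        simp [h0, h2, hpz, ← hc0, ← hc1, ← hc2, ← hc3, ← hc4, ← hc5, d0, d5, e1, e3, hq, hp2]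
    funext k
    exact key k
  have htc : theta chevE6 F c = tor ζ (vec (n : ZMod 5) 0) * theta chevE6 F (rC α β γ) := by
    rw [tor, ← map_mul, ← hcomp, map_mul, theta_kerV hf3, mul_one]
  rw [htc, inv_mul_cancel_left]
  exact theta_rC_mem α β γ

/-- The decomposition of an element commuting with `el 1 0`. -/
theorem exists_decomp {y : GL chevE6.Idx F} (hy : y ∈ G16 F) (hc : Commute y (el hζ 1 0)) :
    ∃ i : ZMod 5, ∃ l ∈ L16 F, sg F l = l ∧ y = el hζ i 0 * l := by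
  set g := gg ζ with hg
  set z := g⁻¹ * y * g with hz
  have hyF : sg F y = y := (TwistE6D4.Ctx.G0_le_Fix _ hy : y ∈ TwistE6D4.Fix _ _)
  have hyG : y ∈ chevE6.group F := TwistE6D4.Ctx.G0_le_group _ hy
  have hzG : z ∈ chevE6.group F := mul_mem (mul_mem (inv_mem gg_mem_group) hyG) gg_mem_group
  have hzc : z * tor ζ (vec 1 0) = tor ζ (vec 1 0) * z := by
    have h := hc.eq
    rw [el_scalar hζ 1, ← hg] at h
    calc z * tor ζ (vec 1 0) = g⁻¹ * (y * (g * tor ζ (vec 1 0) * g⁻¹)) * g := by rw [hz]; group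
      _ = g⁻¹ * (g * tor ζ (vec 1 0) * g⁻¹ * y) * g := by rw [h]
      _ = _ := by rw [hz]; group
  have hzσ : Nw F wordA * sg F z * (Nw F wordA)⁻¹ = z := by
    rw [hz, map_mul, map_mul, map_inv, hyF, hg, sg_gg hζ]; group
  obtain ⟨u, hu, t, ht, l, v, hv, ez, hl⟩ := exists_form (tor_mem_diag (ζ := ζ) (vec 1 0))
    (χ := fun r => pz ζ (ev (vec 1 0) r)) (fun q hq w => tor_scale hζ _ hq w)
    (fun q hq hp h => (e1_zero q hq ((pos_iff hq).1 hp)).1 (by
      rw [pz_eq_one hζ, ev10 q hq, ZMod.natCast_eq_zero_iff] at h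
      exact Nat.mod_eq_zero_of_dvd h))
    hzG hzc
  obtain ⟨s, hs⟩ := exists_seqW l fun r hr => by
    have h := pz_inj hζ (hl r hr)
    rwa [ev10 _ (wlT_lt l hr), ev10 r hr, ZMod.natCast_eq_natCast_iff'] at h
  rw [Nw_eq hs] at ez
  obtain ⟨c, rfl⟩ : ∃ c, theta chevE6 F c = t := by
    rw [← ChevOrder.torusHom_range gE6] at ht
    obtain ⟨c, rfl⟩ := ht
    exact ⟨c, Units.ext rfl⟩
  set l0 := (theta chevE6 F c)⁻¹ * u * theta chevE6 F c * Nw F (seqW s) * v with hl0
  have hl0m : l0 ∈ L16 F := by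
    refine mul_mem (mul_mem ?_ (Nw_seqW_mem s)) (UR_le_L16 hv)
    have := theta_conj_L16 c⁻¹ (UR_le_L16 hu)
    rwa [map_inv, inv_inv] at this
  have ez' : z = theta chevE6 F c * l0 := by rw [ez, hl0]; group
  have hsl0 := (sg_L16 hl0m).1
  have hnc : Nw F wordA * sg F l0 * (Nw F wordA)⁻¹ = sg F l0 := by
    rw [← (L16_commute_nA hsl0).eq, mul_inv_cancel_right]
  have e1 : Nw F wordA * sg F (theta chevE6 F c) * (Nw F wordA)⁻¹ * sg F l0 = theta chevE6 F c * l0 := by
    rw [ez', map_mul] at hzσ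
    rw [← hnc]
    calc _ = Nw F wordA * (sg F (theta chevE6 F c) * sg F l0) * (Nw F wordA)⁻¹ := by group
      _ = _ := hzσ
  obtain ⟨i, hi⟩ := torus_solve hζ h15 (c := c) (by
    rw [show (theta chevE6 F c)⁻¹ * (Nw F wordA * sg F (theta chevE6 F c) * (Nw F wordA)⁻¹) =
      l0 * (sg F l0)⁻¹ by rw [eq_mul_inv_iff_mul_eq, mul_assoc, e1, inv_mul_cancel_left]]
    exact mul_mem hl0m (inv_mem hsl0))
  set l1 := (tor ζ (vec i 0))⁻¹ * theta chevE6 F c * l0 with hl1
  have hl1m : l1 ∈ L16 F := mul_mem hi hl0m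
  have ez1 : z = tor ζ (vec i 0) * l1 := by rw [ez', hl1]; group
  have hl1σ : sg F l1 = l1 := by
    have hn1 : Nw F wordA * sg F l1 * (Nw F wordA)⁻¹ = sg F l1 := by
      rw [← (L16_commute_nA (sg_L16 hl1m).1).eq, mul_inv_cancel_right]
    have h := hzσ
    rw [ez1, map_mul] at h
    refine mul_left_cancel (a := tor ζ (vec i 0)) ?_
    calc tor ζ (vec i 0) * sg F l1
        = Nw F wordA * sg F (tor ζ (vec i 0)) * (Nw F wordA)⁻¹ * (Nw F wordA * sg F l1 * (Nw F wordA)⁻¹) := by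
          rw [nA_sg_tor hζ i, hn1]
      _ = _ := by rw [← h]; group
  refine ⟨i, l1, hl1m, hl1σ, ?_⟩
  have hgl := (gg_commute (ζ := ζ) hl1m).eq
  rw [el_scalar hζ i, ← hg, show y = g * z * g⁻¹ by rw [hz]; group, ez1]
  calc g * (tor ζ (vec i 0) * l1) * g⁻¹ = g * tor ζ (vec i 0) * (l1 * g⁻¹) := by group
    _ = g * tor ζ (vec i 0) * (g⁻¹ * l1) := by
        congr 1
        rw [eq_inv_mul_iff_mul_eq, ← mul_assoc, ← hgl, hg, mul_inv_cancel_right]
    _ = _ := by group

end Cfsg.Agent.TwistE6Five
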