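import Cfsg.Agent.Lib.TwistE6Five.Torus

/-!
# The fixed points of σ in E₆(16) lie in the twisted group

`mem_G0_of_fixed`: over a field of characteristic two in which every non-zero element has order dividing
fifteen, an element of the Chevalley group fixed by σ lies in the group generated by the fixed orbit elements.
-/

set_option autoImplicit false
set_option linter.unusedSectionVars false
set_option maxRecDepth 100000

namespace Cfsg.Agent.TwistE6Five

open Cfsg.Lie Cfsg.Lie.ChevalleyDatum Cfsg.Agent.Chev Cfsg.Agent.ChevBN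
open Cfsg.Agent.TwistE6D4 (theta chiX e6Twist e6Node TorSym)

/-- Parameters on the nodes of E₆ as a family indexed by `Fin 6`. -/
abbrev tup {A : Type*} (x : Fin chevE6.rank → A) : Fin 6 → A := TwistE6D4.six x

/-- The ambient word of a folded word. -/
def ambB (l : List (Fin 4)) : Word := l.flatMap blockB

theorem blockB_eq : ∀ a : Fin 4, blockB a =
    (List.range (e6Twist.len (chevE6.simple (e6Node a).val))).map (fun k => e6Twist.pi^[k] (e6Node a)) := by
  decide +kernel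

theorem pi_pi : ∀ i : Fin chevE6.rank, e6Twist.pi (e6Twist.pi i) = i := by decide +kernel

theorem wlT_singleton_sq (i : Fin chevE6.rank) {r : ℕ} (hr : r < chevE6.nroots) :
    wT i.val (wT i.val r) = r := (wlT_reverse [i] hr).1

theorem wlT_piW (l : Word) {r : ℕ} (hr : r < chevE6.nroots) : wlT (piW l) (rhoT r) = rhoT (wlT l r) := by
  induction l with
  | nil => rfl
  | cons i l ih =>
    rw [piW, List.map_cons, wlT_cons, wlT_cons, ← piW, ih, wT_rho i _ (wlT_lt l hr)]

variable {F : Type*} [Field F] [CharP F 2]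

theorem pos_ww (l : Word) (q : Fin chevE6.nroots) :
    (Rd F).pos ((Rd F).ww l q) ↔ 36 ≤ wlT l q.val := by
  show chevE6.IsPosRoot ((Rd F).ww l q).val ↔ _
  rw [ww_val, pos_iff (wlT_lt l q.isLt)]

theorem neg_simple_pos (l : Word) (j : Fin chevE6.rank) :
    36 ≤ wlT (l ++ [j]) (chevE6.simple j.val) ↔ ¬ 36 ≤ wlT l (chevE6.simple j.val) := by
  let R := Rd (ZMod 2)
  have h1 := pos_ww (F := ZMod 2) (l ++ [j]) (R.simple j)
  have h2 := pos_ww (F := ZMod 2) l (R.simple j)
  rw [R.ww_append, R.ww_cons, R.ww_nil, R.w_simple, R.ww_neg, R.pos_neg, h2] at h1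
  exact h1.symm

theorem shorter {l : Word} {j : Fin chevE6.rank} (h : ¬ 36 ≤ wlT l (chevE6.simple j.val)) :
    ∃ l' : Word, l'.length + 1 = l.length ∧ ∀ r < chevE6.nroots, wlT (l ++ [j]) r = wlT l' r := by
  let R := Rd (ZMod 2)
  obtain ⟨l', hlen, k, hk, e⟩ := R.exists_shorter (l := l) (j := j)
    (fun hp => h ((pos_ww (F := ZMod 2) l (R.simple j)).1 hp))
  refine ⟨l', hlen, fun r hr => wlT_eq_of_mem (F := ZMod 2) ?_ hr⟩
  show (R.nw l')⁻¹ * R.nw (l ++ [j]) ∈ chevE6.diagonalSubgroup (ZMod 2)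
  rw [e, ← mul_assoc]
  exact R.nw_conj_H' l' hk

/-- A word commuting with the diagram symmetry on roots acts as a folded word. -/
theorem exists_folded (l : Word) (h : ∀ r < chevE6.nroots, wlT l (rhoT r) = rhoT (wlT l r)) :
    ∃ m : List (Fin 4), ∀ r < chevE6.nroots, wlT l r = wlT (ambB m) r := by
  induction hn : l.length using Nat.strong_induction_on generalizing l with
  | _ n ih =>
    rcases List.eq_nil_or_concat' l with rfl | ⟨l0, j, rfl⟩
    · exact ⟨[], fun r _ => rfl⟩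
    have hlen : (l0 ++ [j]).length = l0.length + 1 := by simp
    by_cases hp : 36 ≤ wlT (l0 ++ [j]) (chevE6.simple j.val)
    · obtain ⟨l', hl', e⟩ := shorter ((neg_simple_pos l0 j).1 hp)
      obtain ⟨m, hm⟩ := ih l'.length (by omega) l'
        (fun r hr => by rw [← e _ (rhoT_lt hr), ← e r hr, h r hr]) rfl
      exact ⟨m, fun r hr => by rw [e r hr, hm r hr]⟩
    obtain ⟨a, ha⟩ := block_casesT j
    set B : Word := if e6Twist.pi j = j then [j] else [e6Twist.pi j, j] with hB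
    obtain ⟨l1, hl1, e1⟩ : ∃ l1 : Word, l1.length < n ∧
        ∀ r < chevE6.nroots, wlT (l0 ++ [j]) r = wlT l1 (wlT B r) := by
      by_cases hj : e6Twist.pi j = j
      · refine ⟨l0, by omega, fun r _ => ?_⟩
        rw [hB, if_pos hj, wlT_append]
      · have hs := gE6.simple_lt j.val j.isLt
        have hs' := gE6.simple_lt (e6Twist.pi j).val (e6Twist.pi j).isLt
        have hneg : ¬ 36 ≤ wlT l0 (chevE6.simple (e6Twist.pi j).val) := by
          have e : wlT (l0 ++ [j]) (chevE6.simple (e6Twist.pi j).val) =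
              wlT l0 (chevE6.simple (e6Twist.pi j).val) := by
            rw [wlT_append]
            show wlT l0 (wT j.val (chevE6.simple (e6Twist.pi j).val)) = _
            rw [simpleT, pi_orthT j hj]
          rw [← e, ← simple_rho, h _ hs, (rhoT_rhoT _ (wlT_lt _ hs)).2]
          exact hp
        obtain ⟨l1, hl1, e⟩ := shorter hneg
        refine ⟨l1, by omega, fun r hr => ?_⟩
        have hr1 : wT j.val r < chevE6.nroots := (wN_eq j hr).2
        rw [hB, if_neg hj, wlT_append]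
        show wlT l0 (wT j.val r) = wlT l1 (wT (e6Twist.pi j).val (wT j.val r))
        rw [← e _ (wN_eq _ hr1).2, wlT_append]
        show _ = wlT l0 (wT (e6Twist.pi j).val (wT (e6Twist.pi j).val (wT j.val r)))
        rw [wlT_singleton_sq _ hr1]
    have hBr : ∀ r < chevE6.nroots, wlT B.reverse (rhoT r) = rhoT (wlT B.reverse r) := by
      intro r hr
      have hq := wlT_lt B.reverse hr
      conv_lhs => rw [← (wlT_reverse B hr).2, ← ha _ hq, ← block_rhoT a _ hq, ha _ (rhoT_lt hq)]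
      rw [(wlT_reverse B (rhoT_lt hq)).1]
    obtain ⟨m, hm⟩ := ih l1.length hl1 l1 (fun r hr => by
      have hq := wlT_lt B.reverse hr
      have e2 := e1 _ hq
      rw [(wlT_reverse B hr).2] at e2
      have e3 := e1 _ (wlT_lt B.reverse (rhoT_lt hr))
      rw [(wlT_reverse B (rhoT_lt hr)).2] at e3
      rw [← e3, ← e2, hBr r hr, h _ hq]) rfl
    refine ⟨m ++ [a], fun r hr => ?_⟩
    rw [e1 r hr, hm _ (wlT_lt B hr), ← ha r hr]
    simp only [ambB, List.flatMap_append, wlT_append, List.flatMap_singleton]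

/-! ### σ on the subgroups -/

theorem sg_Upos {g : GL chevE6.Idx F} (hg : g ∈ chevE6.posUnipotent F) : sg F g ∈ chevE6.posUnipotent F := by
  have h : (chevE6.posUnipotent F).map (sg F) ≤ chevE6.posUnipotent F := by
    rw [ChevalleyDatum.posUnipotent, MonoidHom.map_closure]
    refine (Subgroup.closure_le _).2 ?_
    rintro _ ⟨g, ⟨r, t, hr, e⟩, rfl⟩
    obtain rfl : g = X r t := Units.ext e
    rw [sg_X hr.1]
    refine Subgroup.subset_closure ⟨rhoT r, t ^ 2, ?_, coe_xg gE6 _ _⟩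
    rw [pos_iff (rhoT_lt hr.1), (rhoT_rhoT r hr.1).2, ← pos_iff hr.1]
    exact hr
  exact h ⟨g, hg, rfl⟩

/-- σ on the toral elements. -/
theorem sg_theta (c : Fin chevE6.rank → Fˣ) :
    sg F (theta chevE6 F c) =
      theta chevE6 F (fun i => Units.map (frobenius F 2 : F →* F) (c (e6Twist.pi i))) := by
  refine diag_ext (sg_diag (TwistE6D4.theta_mem_diagonal gE6 c)) (TwistE6D4.theta_mem_diagonal gE6 _) fun r hr => ?_
  have hq := rhoT_lt hr
  obtain ⟨hr2, -⟩ := rhoT_rhoT r hr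
  have e : sg F (X (rhoT r) (1 : F)) = X r 1 := by rw [sg_X hq, hr2, one_pow]
  have hc : chiX (fun i => Units.map (frobenius F 2 : F →* F) (c (e6Twist.pi i))) r =
      Units.map (frobenius F 2 : F →* F) (chiX c (rhoT r)) := by
    rw [chiX, chiX, map_prod,
      ← TwistE6D4.e6Twist_ok.pi_bij.prod_comp fun i : Fin chevE6.rank =>
        Units.map (frobenius F 2 : F →* F) (c i ^ chevE6.cartan i.val (rhoT r))]
    refine Finset.prod_congr rfl fun i _ => ?_
    rw [map_zpow, ← (rhoT_eq r hr).1, rho, TwistE6D4.e6Twist_ok.cartan r hr i]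
  calc sg F (theta chevE6 F c) * X r 1 * (sg F (theta chevE6 F c))⁻¹
      = sg F (theta chevE6 F c * X (rhoT r) 1 * (theta chevE6 F c)⁻¹) := by rw [map_mul, map_mul, map_inv, e]
    _ = _ := by
        rw [X, X, TwistE6D4.xg_eq gE6, TwistE6D4.xg_eq gE6, TwistE6D4.theta_conj_gx gE6 _ hq,
          TwistE6D4.theta_conj_gx gE6 _ hr, ← TwistE6D4.xg_eq gE6, ← TwistE6D4.xg_eq gE6, sg_X hq, hr2, hc]
        congr 1
        simp [frobenius_def]

/-- The kernel of the toral parametrisation. -/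
theorem theta_ker {x : Fin chevE6.rank → Fˣ} (h : theta chevE6 F x = 1) :
    tup x 2 = tup x 0 * tup x 0 ∧ tup x 3 = 1 ∧ tup x 1 = 1 ∧ tup x 0 * tup x 0 * tup x 0 = 1 ∧
      tup x 5 = tup x 0 * tup x 0 ∧ tup x 4 = tup x 0 := by
  have h' := (TwistE6D4.mem_ker_theta gE6 TwistE6D4.e6_cartan x).1 h
  have e : ∀ i : Fin 6, ∏ j : Fin 6, (tup x) j ^
      ((([[2, 0, -1, 0, 0, 0], [0, 2, 0, -1, 0, 0], [-1, 0, 2, -1, 0, 0], [0, -1, -1, 2, -1, 0],
        [0, 0, 0, -1, 2, -1], [0, 0, 0, 0, -1, 2]] : List (List ℤ)).getD i.val []).getD j.val 0) = 1 := by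
    intro i
    rw [← h' i]
    exact Finset.prod_congr rfl fun j _ => congrArg ((tup x) j ^ ·) (TwistE6D4.e6_cartan_simple i j).symm
  have e0 := e 0
  have e1 := e 1
  have e2 := e 2
  have e3 := e 3
  have e4 := e 4
  have e5 := e 5
  simp only [Fin.prod_univ_six, List.getD_cons_zero, List.getD_cons_succ, Fin.val_zero, Fin.val_one,
    Fin.val_two, show ((3 : Fin 6) : ℕ) = 3 from rfl, show ((4 : Fin 6) : ℕ) = 4 from rfl,
    show ((5 : Fin 6) : ℕ) = 5 from rfl, _root_.zpow_zero, mul_one, one_mul, zpow_neg, zpow_one,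
    zpow_two] at e0 e1 e2 e3 e4 e5
  refine TwistE6D4.e6_ker_eq (tup x 0) (tup x 1) (tup x 2) (tup x 3) (tup x 4) (tup x 5) ?_ ?_ ?_ ?_ ?_ ?_
  · exact mul_inv_eq_one.1 e0
  · exact mul_inv_eq_one.1 e1
  · rw [← mul_inv_eq_one, _root_.mul_inv, ← e2]; ac_rfl
  · rw [← mul_inv_eq_one, _root_.mul_inv, _root_.mul_inv, ← e3]; ac_rfl
  · rw [← mul_inv_eq_one, _root_.mul_inv, ← e4]; ac_rfl
  · rw [← mul_inv_eq_one, ← e5]; ac_rfl

theorem torSym_of_fixed (h15 : ∀ u : Fˣ, u ^ 15 = 1) {c : Fin chevE6.rank → Fˣ}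
    (h : sg F (theta chevE6 F c) = theta chevE6 F c) : c ∈ TorSym e6Twist (frobenius F 2) := by
  set c' : Fin chevE6.rank → Fˣ := fun i => Units.map (frobenius F 2 : F →* F) (c (e6Twist.pi i)) with hc'
  have hx : theta chevE6 F (c⁻¹ * c') = 1 := by rw [map_mul, map_inv, ← sg_theta c, h, inv_mul_cancel]
  obtain ⟨k2, k3, k1, ka, k5, k4⟩ := theta_ker hx
  have hsq : ∀ i, c' i = c (e6Twist.pi i) * c (e6Twist.pi i) := fun i => Units.ext (by
    simp [hc', frobenius_def, sq])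
  set a := tup (c⁻¹ * c') 0 with ha
  have e0 : tup c 5 * tup c 5 = tup c 0 * a :=
    (hsq _).symm.trans (mul_inv_cancel_left (tup c 0) (tup c' 0)).symm
  have e5 : tup c 0 * tup c 0 = tup c 5 * (a * a) := by
    rw [← k5]
    exact (hsq _).symm.trans (mul_inv_cancel_left (tup c 5) (tup c' 5)).symm
  set f := tup c 0 * (tup c 5)⁻¹ with hf
  have hf3 : f ^ 3 = a := by
    have h1 : f ^ 3 * (tup c 5 * tup c 5 * tup c 5) = tup c 0 * tup c 0 * tup c 0 := by
      rw [hf, pow_succ, pow_two]; simp [mul_assoc, mul_comm, mul_left_comm]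
    rw [e5, show tup c 5 * (a * a) * tup c 0 = a * (tup c 5 * (tup c 0 * a)) by ac_rfl, ← e0,
      show a * (tup c 5 * (tup c 5 * tup c 5)) = a * (tup c 5 * tup c 5 * tup c 5) by ac_rfl] at h1
    exact mul_right_cancel h1
  have ha1 : a = 1 := by
    have h9 : f ^ 9 = 1 := by
      rw [show (9 : ℕ) = 3 * 3 from rfl, pow_mul, hf3, pow_succ, pow_two]; exact ka
    have h6 : f ^ 6 = 1 := by
      have := h15 f
      rwa [show (15 : ℕ) = 9 + 6 from rfl, pow_add, h9, one_mul] at this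
    rw [← hf3]
    rwa [show (9 : ℕ) = 6 + 3 from rfl, pow_add, h6, one_mul] at h9
  rw [ha1, mul_one] at k2 k5
  rw [ha1] at k4
  have hone : ∀ i : Fin 6, tup (c⁻¹ * c') i = 1 := by
    intro i
    fin_cases i
    exacts [ha.symm.trans ha1, k1, k2, k3, k4, k5]
  intro i
  have h1 := hone (e6Twist.pi i)
  have h2 : c' (e6Twist.pi i) = c (e6Twist.pi i) := (inv_mul_eq_one.1 h1).symm
  rw [← h2]
  simp only [hc', pi_pi]

theorem ambB_eq (m : List (Fin 4)) :
    ambB m = TwistE6Invol.ambW (TwistE6D4.ctxE6 gE6 (frobenius F 2)) m := by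
  induction m with
  | nil => rfl
  | cons a m ih =>
    show blockB a ++ ambB m = _
    rw [ih, blockB_eq a]
    rfl

/-! ### Fixed points -/

variable [Finite F]

/-- A fixed element of the Chevalley group lies in the twisted group. -/
theorem mem_G0_of_fixed (h15 : ∀ u : Fˣ, u ^ 15 = 1) {g : GL chevE6.Idx F} (hg : g ∈ chevE6.group F)
    (hfix : sg F g = g) : g ∈ (TwistE6D4.ctxE6 gE6 (frobenius F 2)).G0 := by
  set C := TwistE6D4.ctxE6 gE6 (frobenius F 2) with hC
  let R := Rd F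
  have hU : ∀ u ∈ chevE6.posUnipotent F, sg F u = u → u ∈ C.G0 := fun u hu hfu => by
    have h1 : u ∈ C.rgd.Upos := by
      rw [C.Upos_eq]
      exact ⟨C.posUnipotent_eq ▸ hu, TwistE6D4.mem_Fix.2 hfu⟩
    exact C.rgd_G ▸ C.rgd.B_le_G (C.rgd.Upos_le_B h1)
  rw [← chev_G gE6 rootsE6] at hg
  obtain ⟨b, hb, l, v, hv, rfl⟩ := R.exists_normalForm hg
  obtain ⟨u, hu, t, ht, rfl⟩ := R.exists_B hb
  have hu' : u ∈ chevE6.posUnipotent F := chev_Upos gE6 rootsE6 (F := F) ▸ hu
  have hv' : v ∈ chevE6.posUnipotent F := chev_Upos gE6 rootsE6 (F := F) ▸ R.Uminus_le_Upos l hv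
  have hsB : sg F u * sg F t ∈ R.B :=
    mul_mem (R.Upos_le_B (by rw [chev_Upos]; exact sg_Upos hu')) (R.H_le_B (sg_diag ht))
  have hsU : sg F v ∈ R.B := R.Upos_le_B (by rw [chev_Upos]; exact sg_Upos hv')
  rw [map_mul, map_mul, map_mul, sg_Nw] at hfix
  have hH := R.mem_H_of_eq (R.nw_mem_N l) (R.nw_mem_N (piW l)) hb (R.Upos_le_B (R.Uminus_le_Upos l hv))
    hsB hsU hfix.symm
  have hperm : ∀ r < chevE6.nroots, wlT (piW l) r = wlT l r := fun r hr => wlT_eq_of_mem hH hr
  have hcomm : ∀ r < chevE6.nroots, wlT l (rhoT r) = rhoT (wlT l r) := fun r hr => by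
    rw [← hperm _ (rhoT_lt hr), wlT_piW l hr]
  obtain ⟨m, hm⟩ := exists_folded l hcomm
  have hn : Nw F l ∈ C.G0 := by
    have e : Nw F l = C.rgd.nw m := by
      rw [TwistE6Invol.nw_amb C rootsE6]
      refine Nw_eq fun r hr => ?_
      rw [hm r hr]
      exact congrArg (fun w => wlT w r) (ambB_eq (F := F) m)
    rw [e, ← C.rgd_G]
    exact C.rgd.N_le_G (C.rgd.nw_mem_N m)
  rw [Nw_eq hperm] at hfix
  have hsv : sg F v ∈ R.Uminus l := by
    have h : (R.Uminus l).map (sg F) ≤ R.Uminus l := by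
      rw [Subgroup.map_le_iff_le_comap]
      refine R.span_le fun r hr x hx => ?_
      obtain ⟨w, rfl⟩ := (mem_rootSubgroup gE6 _).1 hx
      show sg F (X r.val w) ∈ R.Uminus l
      rw [sg_X r.isLt]
      refine R.U_le_span (A := {s | R.pos s ∧ ¬ R.pos (R.ww l s)}) (r := ⟨rhoT r.val, rhoT_lt r.isLt⟩) ?_
        (xg_mem_rootSubgroup gE6 _ _)
      refine ⟨?_, fun hp => hr.2 ?_⟩
      · show chevE6.IsPosRoot (rhoT r.val)
        rw [pos_iff (rhoT_lt r.isLt), (rhoT_rhoT r.val r.isLt).2, ← pos_iff r.isLt]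
        exact hr.1
      · rw [pos_ww] at hp ⊢
        rwa [hcomm r.val r.isLt, (rhoT_rhoT _ (wlT_lt l r.isLt)).2] at hp
    exact h ⟨v, hv, rfl⟩
  obtain ⟨eb, ev'⟩ := R.normalForm_unique (k := 1) (one_mem _) (one_mul _).symm hsB hb hsv hv hfix
  have hU1 : u⁻¹ * sg F u = t * (sg F t)⁻¹ := by
    rw [inv_mul_eq_iff_eq_mul, ← mul_assoc, ← eb, mul_inv_cancel_right]
  have h1 : u⁻¹ * sg F u = 1 := by
    rw [← Subgroup.mem_bot, ← R.U_inf_H]
    exact ⟨R.Upos.mul_mem (R.Upos.inv_mem hu) (by rw [chev_Upos]; exact sg_Upos hu'),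
      hU1 ▸ R.H.mul_mem ht (R.H.inv_mem (sg_diag ht))⟩
  have hut : sg F t = t := by
    rw [h1] at hU1
    exact (mul_inv_eq_one.1 hU1.symm).symm
  have htG : t ∈ C.G0 := by
    obtain ⟨c, rfl⟩ : ∃ c, theta chevE6 F c = t := by
      have ht' : t ∈ chevE6.diagonalSubgroup F := ht
      rw [← ChevOrder.torusHom_range gE6] at ht'
      obtain ⟨c, rfl⟩ := ht'
      exact ⟨c, Units.ext rfl⟩
    exact C.theta_mem_G0 (torSym_of_fixed h15 hut)
  exact mul_mem (mul_mem (mul_mem (hU u hu' (inv_mul_eq_one.1 h1).symm) htG) hn) (hU v hv' ev')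

end Cfsg.Agent.TwistE6Five
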