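import Cfsg.Agent.Lib.TwistE6Five.Levi
import Cfsg.Agent.Lib.TwistE6Five.Fixed

/-!
# A subgroup of order twenty-five of ²E₆(2) and its fusion

`g2` conjugates the torus into the one twisted by `wordN`, so `el i j` are twenty-five elements of the twisted
group; `exists_conj`: all but the trivial one are conjugate to `el 1 0`.
-/

set_option autoImplicit false
set_option linter.unusedSectionVars false
set_option maxRecDepth 100000

namespace Cfsg.Agent.TwistE6Five

open Cfsg.Lie Cfsg.Lie.ChevalleyDatum Cfsg.Agent.Chev Cfsg.Agent.ChevBN Matrix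

theorem genW_list (i : Fin 3) : genW i = genP i ++ (genJ i :: (genP i).reverse) := genW_eq i

/-- The exponents of the matrix `Mz`. -/
def expM (k : Fin 4) : ℕ := ![1, 2, 4, 3] k

variable {F : Type*} [Field F] [CharP F 2] [Finite F]

/-- The twisted group over the large field. -/
abbrev G16 (F : Type*) [Field F] [CharP F 2] : Subgroup (GL chevE6.Idx F) :=
  (TwistE6D4.ctxE6 gE6 (frobenius F 2)).G0

variable {ζ : Fˣ} (hζ : orderOf ζ = 5) (h15 : ∀ u : Fˣ, u ^ 15 = 1)

theorem Nw_seqW_mem (s : List (Fin 3)) : Nw F (seqW s) ∈ L16 F := by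
  induction s with
  | nil => exact one_mem _
  | cons i s ih =>
    rw [seqW, List.flatMap_cons, Nw_append]
    refine mul_mem ?_ ih
    rw [genW_list, Nw_append, Nw, Nw, RGD.RootData.nw_cons, ← Nw, ← Nw, Nw_reverse, ← mul_assoc]
    have hj := gE6.simple_lt (genJ i).val (genJ i).isLt
    obtain ⟨h1, h2⟩ := genP_rootT i
    rw [← simpleT] at h1 h2
    rw [← neg_eq hj] at h2
    have e : Nw F (genP i) * ng gE6 F (chevE6.simple (genJ i).val) 1 * (Nw F (genP i))⁻¹ =
        (Nw F (genP i) * X (chevE6.simple (genJ i).val) 1 * (Nw F (genP i))⁻¹) *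
          (Nw F (genP i) * X (chevE6.neg (chevE6.simple (genJ i).val)) 1 * (Nw F (genP i))⁻¹) *
          (Nw F (genP i) * X (chevE6.simple (genJ i).val) 1 * (Nw F (genP i))⁻¹) := by
      rw [ng_one]; group
    show Nw F (genP i) * ng gE6 F (chevE6.simple (genJ i).val) 1 * (Nw F (genP i))⁻¹ ∈ L16 F
    rw [e, Nw_conj _ hj, Nw_conj _ (gE6.neg_lt _ hj)]
    exact mul_mem (mul_mem (X_mem_L16 h1 _) (X_mem_L16 h2 _)) (X_mem_L16 h1 _)

include hζ

theorem z_pow_five : (ζ : F) ^ 5 = 1 := by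
  rw [← Units.val_pow_eq_pow_val, ← hζ, pow_orderOf_eq_one, Units.val_one]

theorem z_sum : (ζ : F) + (ζ : F) ^ 2 + (ζ : F) ^ 3 + (ζ : F) ^ 4 = 1 := by
  have h1 : (ζ : F) - 1 ≠ 0 := by
    intro h
    have : ζ = 1 := Units.ext (sub_eq_zero.1 h)
    rw [this, orderOf_one] at hζ
    norm_num at hζ
  have h2 : ((ζ : F) - 1) * (1 + (ζ : F) + (ζ : F) ^ 2 + (ζ : F) ^ 3 + (ζ : F) ^ 4) = 0 := by
    linear_combination z_pow_five hζ
  have h3 := (mul_eq_zero.1 h2).resolve_left h1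
  linear_combination h3 + (-1 : F) * CharTwo.two_eq_zero (R := F)

/-! ### The conjugating element -/

omit hζ

/-- The parameter. -/
def gam (ζ : Fˣ) : F := (ζ : F) + (ζ : F) ^ 2

/-- The element conjugating into the two orthogonal rank one factors. -/
def gg (ζ : Fˣ) : GL chevE6.Idx F := X 29 (gam ζ) * X 42 1 * X 34 (gam ζ ^ 2) * X 37 1

theorem gg_mem_group : gg ζ ∈ chevE6.group F :=
  mul_mem (mul_mem (mul_mem (xg_mem_group gE6 _ _) (xg_mem_group gE6 _ _)) (xg_mem_group gE6 _ _))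
    (xg_mem_group gE6 _ _)

theorem gg_commute {l : GL chevE6.Idx F} (hl : l ∈ L16 F) : Commute l (gg ζ) :=
  ((((L16_commute_ab hl (by simp) _).mul_right (L16_commute_ab hl (by simp) _)).mul_right
    (L16_commute_ab hl (by simp) _)).mul_right (L16_commute_ab hl (by simp) _))

theorem wordA_fix_commute {s : ℕ} (hs : s ∈ ([37, 34] : List ℕ)) (t : F) :
    Commute (Nw F wordA) (X s t) := by
  have hlt : s < chevE6.nroots := by
    simp only [List.mem_cons, List.not_mem_nil, or_false] at hs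
    rcases hs with rfl | rfl <;> decide
  have h := Nw_conj (F := F) wordA hlt t
  rw [wordA_fixT s (List.mem_append_left _ hs), mul_inv_eq_iff_eq_mul] at h
  exact h

include hζ

theorem gam_eq : (gam ζ) ^ 4 = gam ζ + 1 := by
  have h : gam ζ ^ 4 = (ζ : F) ^ 4 + (ζ : F) ^ 8 := by
    rw [gam, show (4 : ℕ) = 2 * 2 from rfl, pow_mul, CharTwo.add_sq, CharTwo.add_sq]; ring
  rw [h, gam]
  linear_combination (ζ : F) ^ 3 * z_pow_five hζ + z_sum hζ - (((ζ : F) + (ζ : F) ^ 2)) * CharTwo.two_eq_zero (R := F)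

theorem sg_gg : sg F (gg ζ) = gg ζ * Nw F wordA := by
  have h29 : (29 : ℕ) < chevE6.nroots := by decide
  have h34 : (34 : ℕ) < chevE6.nroots := by decide
  have h37 : (37 : ℕ) < chevE6.nroots := by decide
  have h42 : (42 : ℕ) < chevE6.nroots := by decide
  obtain ⟨r1, r2, r3, r4⟩ := ab_rhoT
  have hc : ∀ {r s : ℕ}, r ∈ ([42, 29] : List ℕ) → s ∈ ([37, 34] : List ℕ) → ∀ t u : F,
      Commute (X r t) (X s u) := by
    intro r s hr hs t u
    obtain ⟨e1, e2⟩ := ab_orth r hr s hs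
    refine X_commute ?_ ?_ e1 e2 t u
    · simp only [List.mem_cons, List.not_mem_nil, or_false] at hr; rcases hr with rfl | rfl <;> decide
    · simp only [List.mem_cons, List.not_mem_nil, or_false] at hs; rcases hs with rfl | rfl <;> decide
  have hn : X 29 (1 : F) * X 42 1 = X 42 1 * Nw F wordA := by
    have e : Nw F wordA = X 42 1 * X 29 1 * X 42 1 := by
      show ng gE6 F (chevE6.simple 2) 1 * 1 = _
      rw [mul_one, ng_one]
      rfl
    rw [e, ← mul_assoc, ← mul_assoc, X_mul_self h42, one_mul]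
  simp only [gg, map_mul, sg_X h29, sg_X h42, sg_X h34, sg_X h37, r1, r2, r3, r4, one_pow]
  rw [← pow_mul, show (2 : ℕ) * 2 = 4 from rfl, gam_eq hζ,
    show X 29 (gam ζ + 1) = X 29 (gam ζ) * X 29 1 by rw [X, X, X, xg_add gE6 h29]]
  calc X 34 (gam ζ ^ 2) * X 37 1 * (X 29 (gam ζ) * X 29 1) * X 42 1
      = X 34 (gam ζ ^ 2) * X 37 1 * ((X 29 (gam ζ) * X 42 1) * Nw F wordA) := by
        rw [mul_assoc, mul_assoc (X 29 (gam ζ)) (X 29 1), hn, ← mul_assoc (X 29 (gam ζ)) (X 42 1)]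
    _ = (X 29 (gam ζ) * X 42 1) * (X 34 (gam ζ ^ 2) * X 37 1) * Nw F wordA := by
        rw [← mul_assoc]
        congr 1
        exact (((hc (by simp) (by simp) _ _).mul_right (hc (by simp) (by simp) _ _)).mul_left
          ((hc (by simp) (by simp) _ _).mul_right (hc (by simp) (by simp) _ _))).symm.eq
    _ = _ := by simp only [mul_assoc]

/-! ### The element of the Levi subgroup -/

omit hζ

/-- The Moore matrix of the conjugates of ζ. -/
def Mz (ζ : Fˣ) : Matrix (Fin 4) (Fin 4) F := Matrix.of fun i j => (ζ : F) ^ expM (i + j)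

include hζ

theorem Mz_sq : Mz ζ * Mz ζ = Matrix.of fun i j : Fin 4 => if j = i + 2 then (0 : F) else 1 := by
  have h5 := z_pow_five hζ
  have h6 : (ζ : F) ^ 6 = (ζ : F) := by rw [pow_succ, h5, one_mul]
  have h7 : (ζ : F) ^ 7 = (ζ : F) ^ 2 := by rw [pow_succ, h6, sq]
  have h8 : (ζ : F) ^ 8 = (ζ : F) ^ 3 := by rw [pow_succ, h7]; ring
  have hs := z_sum hζ
  have h2 := CharTwo.two_eq_zero (R := F)
  ext i j
  fin_cases i <;> fin_cases j <;>
    simp [Mz, expM, Matrix.mul_apply, Fin.sum_univ_four, ← pow_add, ← pow_succ, ← pow_succ', h5, h6, h7, h8,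
      CharTwo.add_self_eq_zero] <;>
    first
      | linear_combination hs
      | linear_combination 2 * h2

theorem det_Mz : (Mz ζ).det = 1 := by
  have h4 : Mz ζ * Mz ζ * (Mz ζ * Mz ζ) = 1 := by
    rw [Mz_sq hζ]
    ext i j
    fin_cases i <;> fin_cases j <;>
      simp [Matrix.mul_apply, Fin.sum_univ_four, CharTwo.add_self_eq_zero]
  have h := congrArg Matrix.det h4
  rw [Matrix.det_mul, Matrix.det_mul, Matrix.det_one] at h
  have h1 : ((Mz ζ).det + 1) ^ (2 * 2) = 0 := by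
    rw [pow_mul, CharTwo.add_sq, CharTwo.add_sq]
    linear_combination h + CharTwo.two_eq_zero (R := F)
  exact CharTwo.add_eq_zero.1 ((pow_eq_zero_iff (by norm_num)).1 h1)

/-- The element of the Levi subgroup. -/
noncomputable def gR : GL chevE6.Idx F :=
  ((MulEquiv.ofBijective (rhoS F) (rhoS_bijective hζ)).symm ⟨Mz ζ, det_Mz hζ⟩).1

theorem gR_mem : gR hζ ∈ L16 F := SetLike.coe_mem _

theorem rhoM_gR : rhoM (gR hζ) = Mz ζ :=
  congrArg Subtype.val
    ((MulEquiv.ofBijective (rhoS F) (rhoS_bijective hζ)).apply_symm_apply ⟨Mz ζ, det_Mz hζ⟩)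

theorem sg_gR : sg F (gR hζ) = gR hζ * Nw F wordC := by
  obtain ⟨h1, h2⟩ := sg_L16 (gR_mem hζ)
  have hC : Nw F wordC ∈ L16 F := Nw_seqW_mem _
  refine L16_ext hζ h1 (mul_mem (gR_mem hζ) hC) ?_
  rw [h2, rhoM_L16_mul _ hC, rhoM_gR]
  ext i j
  rw [Matrix.map_apply, Matrix.mul_apply, Finset.sum_eq_single (j + 1)]
  · have hN : rhoM (Nw F wordC) (j + 1) j = 1 := by
      show (Nw F wordC : Matrix chevE6.Idx chevE6.Idx F) (sI (j + 1)) (Sum.inr ⟨sS j, sS_lt j⟩) = 1
      rw [Nw_entry, wordC_sST]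
      simp [Chev.ev, sI]
    rw [hN, mul_one, Mz, Matrix.of_apply, Matrix.of_apply, frobenius_def, ← pow_mul, ← add_assoc]
    have key : ∀ k : Fin 4, (expM k * 2) % 5 = expM (k + 1) % 5 := by decide
    have h5 : (ζ : F) ^ 5 = 1 := z_pow_five hζ
    rw [pow_eq_pow_mod _ h5, key, ← pow_eq_pow_mod _ h5]
  · intro k _ hk
    have hN : rhoM (Nw F wordC) k j = 0 := by
      show (Nw F wordC : Matrix chevE6.Idx chevE6.Idx F) (sI k) (Sum.inr ⟨sS j, sS_lt j⟩) = 0
      rw [Nw_entry, wordC_sST]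
      simp only [Chev.ev, sI, Sum.elim_inr]
      exact if_neg fun e => hk (sS_inj _ _ e)
    rw [hN, mul_zero]
  · simp

/-- The conjugating element. -/
noncomputable def g2 : GL chevE6.Idx F := gg ζ * gR hζ

theorem g2_mem_group : g2 hζ ∈ chevE6.group F := mul_mem gg_mem_group (L16_le_group (gR_mem hζ))

theorem sg_g2 : sg F (g2 hζ) = g2 hζ * Nw F wordN := by
  rw [g2, map_mul, sg_gg hζ, sg_gR hζ, wordN, Nw_append]
  simp only [mul_assoc]
  congr 1
  rw [← mul_assoc, ← (L16_commute_nA (gR_mem hζ)).eq, mul_assoc]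

/-- The twenty-five elements. -/
noncomputable def el (i j : ZMod 5) : GL chevE6.Idx F := g2 hζ * tor ζ (vec i j) * (g2 hζ)⁻¹

theorem el_mul (i j i' j' : ZMod 5) : el hζ (i + i') (j + j') = el hζ i j * el hζ i' j' := by
  rw [el, el, el, tor_mul hζ]; group

theorem el_fixed (i j : ZMod 5) : sg F (el hζ i j) = el hζ i j := by
  have h : Nw F wordN * sg F (tor ζ (vec i j)) * (Nw F wordN)⁻¹ = tor ζ (vec i j) := by
    refine Nw_sg_tor hζ wordN fun r hr => ?_
    have hw := wlT_lt wordN (rhoT_lt hr)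
    rw [ev_vec i j hw, ev_vec i j hr, vec_fixT i j r hr, ZMod.natCast_mod, Nat.cast_mul, Nat.cast_ofNat]
  rw [el, map_mul, map_mul, map_inv, sg_g2 hζ]
  conv_rhs => rw [← h]
  group

include h15

theorem el_mem (i j : ZMod 5) : el hζ i j ∈ G16 F :=
  mem_G0_of_fixed h15
    (mul_mem (mul_mem (g2_mem_group hζ) (borel_le_group gE6 rootsE6 (Subgroup.mem_sup_right (tor_mem_diag _))))
      (inv_mem (g2_mem_group hζ)))
    (el_fixed hζ i j)

/-- The homomorphism onto the subgroup of order twenty-five. -/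
noncomputable def elHom : Multiplicative (ZMod 5 × ZMod 5) →* ↥(G16 F) where
  toFun p := ⟨el hζ p.toAdd.1 p.toAdd.2, el_mem hζ h15 _ _⟩
  map_one' := Subtype.ext (by
    show el hζ 0 0 = 1
    rw [el, tor_zero hζ]; group)
  map_mul' p q := Subtype.ext (el_mul hζ p.toAdd.1 p.toAdd.2 q.toAdd.1 q.toAdd.2)

theorem elHom_injective : Function.Injective (elHom hζ h15) := by
  refine (injective_iff_map_eq_one _).2 fun p hp => ?_
  have h : el hζ p.toAdd.1 p.toAdd.2 = 1 := congrArg Subtype.val hp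
  rw [el, conj_eq_one_iff] at h
  obtain ⟨h1, h2⟩ := tor_inj hζ h
  exact Multiplicative.toAdd.injective (Prod.ext h1 h2)

/-- All non-trivial elements of the subgroup are conjugate. -/
theorem exists_conj {i j : ZMod 5} (h : ¬ (i = 0 ∧ j = 0)) :
    ∃ y ∈ G16 F, y * el hζ 1 0 * y⁻¹ = el hζ i j := by
  set u := fusW i j
  have hN : Nw F wordN * Nw F (piW u) = Nw F u * Nw F wordN := by
    rw [← Nw_append, ← Nw_append]
    exact Nw_eq fun r hr => fus_commT i j r hr
  have hu : Nw F u * tor ζ (vec 1 0) * (Nw F u)⁻¹ = tor ζ (vec i j) := by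
    refine Nw_tor hζ u fun r hr => ?_
    rw [ev_vec i j (wlT_lt u hr), fus_moveT i j h r hr, ZMod.natCast_mod, ← ev10 r hr]
  refine ⟨g2 hζ * Nw F u * (g2 hζ)⁻¹, mem_G0_of_fixed h15 ?_ ?_, ?_⟩
  · have hu' : Nw F u ∈ chevE6.group F := by
      rw [← chev_G gE6 rootsE6]; exact (Rd F).N_le_G ((Rd F).nw_mem_N u)
    exact mul_mem (mul_mem (g2_mem_group hζ) hu') (inv_mem (g2_mem_group hζ))
  · rw [map_mul, map_mul, map_inv, sg_g2 hζ, sg_Nw, mul_assoc (g2 hζ) (Nw F wordN) _, hN]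
    group
  · rw [el, el, ← hu]
    group

end Cfsg.Agent.TwistE6Five
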