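import Cfsg.Agent.Lib.TwistE6Five.Torus
import Cfsg.Agent.Lib.SLGen.Cycle

/-!
# The subgroup of type A₃ centralising the two orthogonal roots

`L16` is generated by the root subgroups of `rR`; on the four coordinates `sS` it induces exactly `SL₄`
(`rhoS_bijective`).
-/

set_option autoImplicit false
set_option linter.unusedSectionVars false
set_option maxRecDepth 100000

namespace Cfsg.Agent.TwistE6Five

open Cfsg.Lie Cfsg.Lie.ChevalleyDatum Cfsg.Agent.Chev Cfsg.Agent.ChevBN Cfsg.Agent.ChevSt Matrix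
open Cfsg.Agent.TwistE6D4 (theta chiX)

theorem rPos_closed : ∀ r ∈ rPos, ∀ s ∈ rPos, s ≠ r → ∀ τ ∈ chevE6.commTerms r s, τ.1 ∈ rPos := by
  decide +kernel

theorem rPos_sub : ∀ r ∈ rPos, r ∈ rR ∧ r < chevE6.nroots ∧ 36 ≤ r := by decide +kernel

theorem six_cases : ∀ m : Fin 6, (∃ i, six m = sS i) ∨ six m = 42 ∨ six m = 37 := by decide +kernel

/-- A coordinate of the natural module. -/
def sI (i : Fin 4) : chevE6.Idx := Sum.inr ⟨sS i, sS_lt i⟩

theorem sI_inj : Function.Injective sI := fun i j h => by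
  simp only [sI, Sum.inr.injEq, Fin.mk.injEq] at h
  exact sS_inj i j h

variable {F : Type*} [Field F]

/-- The block on the four coordinates. -/
def rhoM (g : GL chevE6.Idx F) : Matrix (Fin 4) (Fin 4) F :=
  Matrix.of fun i j => (g : Matrix chevE6.Idx chevE6.Idx F) (sI i) (sI j)

/-- The four columns are supported on the four coordinates. -/
def ColS (g : GL chevE6.Idx F) : Prop :=
  ∀ j, ∀ a, (∀ i, a ≠ sI i) → (g : Matrix chevE6.Idx chevE6.Idx F) a (sI j) = 0

theorem mul_entry (g : GL chevE6.Idx F) {h : GL chevE6.Idx F} (hh : ColS h) (a : chevE6.Idx) (j : Fin 4) :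
    ((g * h : GL chevE6.Idx F) : Matrix chevE6.Idx chevE6.Idx F) a (sI j) =
      ∑ i, (g : Matrix chevE6.Idx chevE6.Idx F) a (sI i) * rhoM h i j := by
  rw [Units.val_mul, Matrix.mul_apply]
  symm
  refine Finset.sum_of_injOn sI sI_inj.injOn (fun _ _ => Finset.mem_univ _) (fun b _ hb => ?_) fun i _ => rfl
  rw [hh j b fun i e => hb ⟨i, Finset.mem_univ _, e.symm⟩, mul_zero]

theorem rhoM_mul (g : GL chevE6.Idx F) {h : GL chevE6.Idx F} (hh : ColS h) :
    rhoM (g * h) = rhoM g * rhoM h := by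
  ext i j
  rw [Matrix.mul_apply]
  exact mul_entry g hh (sI i) j

theorem ColS.mul {g h : GL chevE6.Idx F} (hg : ColS g) (hh : ColS h) : ColS (g * h) := fun j a ha => by
  rw [mul_entry g hh]
  exact Finset.sum_eq_zero fun i _ => by rw [hg i a ha, zero_mul]

theorem rhoM_one : rhoM (1 : GL chevE6.Idx F) = 1 := by
  ext i j
  simp [rhoM, Matrix.one_apply, sI_inj.eq_iff]

theorem colS_one : ColS (1 : GL chevE6.Idx F) := fun j a ha => by simp [Matrix.one_apply, ha j]

/-- The subgroup of elements acting on the four coordinates. -/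
def stabS (F : Type*) [Field F] : Subgroup (GL chevE6.Idx F) where
  carrier := {g | ColS g ∧ ColS g⁻¹}
  one_mem' := ⟨colS_one, by rw [inv_one]; exact colS_one⟩
  mul_mem' {a b} ha hb := ⟨ha.1.mul hb.1, by rw [_root_.mul_inv_rev]; exact hb.2.mul ha.2⟩
  inv_mem' {a} ha := ⟨ha.2, by rw [inv_inv]; exact ha.1⟩

theorem x_entry {r : ℕ} (hr : r ∈ rR) [CharP F 2] (t : F) (a : chevE6.Idx) (j : Fin 4) :
    (X r t : Matrix chevE6.Idx chevE6.Idx F) a (sI j) =
      (if a = sI j then 1 else 0) + if j = (pos r).2 ∧ a = sI (pos r).1 then t else 0 := by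
  have hlt := rR_lt r hr
  obtain ⟨hn1, hn2⟩ := rR_ne r hr j
  rw [X, coe_xg, ChevalleyDatum.x, dif_pos hlt]
  rcases a with i | ⟨u, hu⟩
  · simp only [ChevalleyDatum.xMat, sI, Matrix.of_apply, Fin.ext_iff, if_neg hn1,
      if_neg (show sS j ≠ chevE6.negIdx.getD r 0 from fun e => hn2 (e.trans (neg_eq hlt)))]
    simp
  · have hc := rR_chain r hr j u hu
    simp only [ChevalleyDatum.xMat, sI, Matrix.of_apply, Fin.ext_iff, if_neg hn1,
      if_neg (show sS j ≠ chevE6.negIdx.getD r 0 from fun e => hn2 (e.trans (neg_eq hlt))), Sum.inr.injEq]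
    congr 1
    by_cases h : j = (pos r).2 ∧ u = sS (pos r).1
    · rw [if_pos h] at hc
      rw [if_pos ⟨congrArg Fin.val h.1, h.2⟩]
      obtain ⟨⟨k, m⟩, e, e'⟩ : ∃ p : ℕ × ℤ, chevE6.chainCoeff r (sS j) u = [p] ∧
          (p.1, p.2.natAbs) = (1, 1) := by
        rcases hL : chevE6.chainCoeff r (sS j) u with _ | ⟨p, _ | ⟨q, L⟩⟩ <;> rw [hL] at hc <;>
          simp at hc
        exact ⟨p, rfl, Prod.ext hc.1 hc.2⟩
      simp only [Prod.mk.injEq] at e'
      rw [e]
      simp only [List.map_cons, List.map_nil, List.sum_cons, List.sum_nil, add_zero, e'.1, pow_one]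
      rw [TwistE6Invol.cast_eq_one (by rcases Int.natAbs_eq_iff.1 e'.2 with h' | h' <;> simp [h']), one_mul]
    · rw [if_neg h] at hc
      rw [if_neg fun h' => h ⟨Fin.ext h'.1, h'.2⟩, List.map_eq_nil_iff.1 hc]
      simp

variable [CharP F 2]

theorem colS_X {r : ℕ} (hr : r ∈ rR) (t : F) : ColS (X r t) := fun j a ha => by
  rw [x_entry hr, if_neg (ha j), if_neg fun h => ha _ h.2, add_zero]

theorem rhoM_X {r : ℕ} (hr : r ∈ rR) (t : F) :
    rhoM (X r t) = Matrix.transvection (pos r).1 (pos r).2 t := by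
  ext i j
  show (X r t : Matrix chevE6.Idx chevE6.Idx F) (sI i) (sI j) = _
  rw [x_entry hr, SLGen.tv_apply]
  simp only [sI_inj.eq_iff]
  congr 1
  exact if_congr (by constructor <;> rintro ⟨h1, h2⟩ <;> exact ⟨h2, h1⟩) rfl rfl

/-- The generators. -/
def rGens (F : Type*) [Field F] : Set (GL chevE6.Idx F) :=
  {g | ∃ r ∈ rR, ∃ t : F, g = xg gE6 F r t}

/-- The subgroup of type A₃. -/
def L16 (F : Type*) [Field F] : Subgroup (GL chevE6.Idx F) := Subgroup.closure (rGens F)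

theorem X_mem_L16 {r : ℕ} (hr : r ∈ rR) (t : F) : X r t ∈ L16 F := Subgroup.subset_closure ⟨r, hr, t, rfl⟩

theorem L16_le_stabS : L16 F ≤ stabS F := by
  refine (Subgroup.closure_le _).2 ?_
  rintro _ ⟨r, hr, t, rfl⟩
  refine ⟨colS_X hr t, ?_⟩
  rw [xg_inv]
  exact colS_X hr (-t)

theorem rhoM_L16_mul (g : GL chevE6.Idx F) {h : GL chevE6.Idx F} (hh : h ∈ L16 F) :
    rhoM (g * h) = rhoM g * rhoM h := rhoM_mul g (L16_le_stabS hh).1

/-- Induction over the generators, which are involutions. -/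
theorem L16_induction {P : GL chevE6.Idx F → Prop} (h1 : P 1) (hg : ∀ r ∈ rR, ∀ t : F, P (X r t))
    (hm : ∀ a ∈ L16 F, ∀ b ∈ L16 F, P a → P b → P (a * b)) {g : GL chevE6.Idx F} (h : g ∈ L16 F) : P g := by
  refine Subgroup.closure_induction'' (p := fun g _ => P g) ?_ ?_ h1 ?_ h
  · rintro _ ⟨r, hr, t, rfl⟩; exact hg r hr t
  · rintro _ ⟨r, hr, t, rfl⟩; rw [xg_inv]; exact hg r hr (-t)
  · exact fun a b ha hb pa pb => hm a ha b hb pa pb

theorem det_rhoM {g : GL chevE6.Idx F} (hg : g ∈ L16 F) : (rhoM g).det = 1 :=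
  L16_induction (P := fun g => (rhoM g).det = 1) (by simp [rhoM_one])
    (fun r hr t => by
      show (rhoM (X r t)).det = 1
      rw [rhoM_X hr, Matrix.det_transvection_of_ne _ _ (pos_ne r hr)])
    (fun a _ b hb pa pb => by show (rhoM (a * b)).det = 1; rw [rhoM_L16_mul a hb, Matrix.det_mul, pa, pb, one_mul])
    hg

/-- The representation on the four coordinates. -/
def rhoS (F : Type*) [Field F] [CharP F 2] : ↥(L16 F) →* Matrix.SpecialLinearGroup (Fin 4) F where
  toFun g := ⟨rhoM g.1, det_rhoM g.2⟩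
  map_one' := Subtype.ext rhoM_one
  map_mul' a b := Subtype.ext (rhoM_L16_mul a.1 b.2)

theorem rhoS_surjective : Function.Surjective (rhoS F) := by
  intro A
  refine SLGen.mem_of_all_transvections (rhoS F).range (fun i j hij c => ?_) A
  obtain ⟨r, hr, e⟩ := pos_surj i j hij
  refine ⟨⟨X r c, X_mem_L16 hr c⟩, Subtype.ext ?_⟩
  show rhoM (X r c) = _
  rw [rhoM_X hr, e]
  rfl

/-! ### Commutation -/

theorem L16_commute {g : GL chevE6.Idx F} (hg : g ∈ L16 F) {y : GL chevE6.Idx F}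
    (hy : ∀ r ∈ rR, ∀ t : F, Commute (X r t) y) : Commute g y :=
  L16_induction (P := fun g => Commute g y) (Commute.one_left y) hy (fun _ _ _ _ pa pb => pa.mul_left pb) hg

theorem L16_commute_ab {g : GL chevE6.Idx F} (hg : g ∈ L16 F) {s : ℕ} (hs : s ∈ ([42, 37, 29, 34] : List ℕ))
    (t : F) : Commute g (X s t) :=
  L16_commute hg fun r hr u => by
    have hs' : s < chevE6.nroots := by
      simp only [List.mem_cons, List.not_mem_nil, or_false] at hs
      rcases hs with rfl | rfl | rfl | rfl <;> decide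
    obtain ⟨h1, h2⟩ := rR_orth r hr s hs
    exact X_commute (rR_lt r hr) hs' h1 h2 u t

theorem L16_commute_nA {g : GL chevE6.Idx F} (hg : g ∈ L16 F) : Commute g (Nw F wordA) :=
  L16_commute hg fun r hr t => by
    have h := Nw_conj (F := F) wordA (rR_lt r hr) t
    rw [wordA_fixT r (List.mem_append_right _ hr), mul_inv_eq_iff_eq_mul] at h
    exact h.symm

theorem L16_commute_tor {ζ : Fˣ} (hζ : orderOf ζ = 5) {g : GL chevE6.Idx F} (hg : g ∈ L16 F) :
    Commute g (tor ζ (vec 1 0)) :=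
  L16_commute hg fun r hr t => by
    have h := tor_conj hζ (vec 1 0) (rR_lt r hr) t
    have h0 : ev (vec 1 0) r = 0 := by
      rw [ev10 r (rR_lt r hr), ← ZMod.natCast_mod, e1_R r hr, Nat.cast_zero]
    rw [h0, pz_zero hζ, Units.val_one, one_mul, mul_inv_eq_iff_eq_mul] at h
    exact h.symm

theorem L16_le_group : L16 F ≤ chevE6.group F := by
  refine (Subgroup.closure_le _).2 ?_
  rintro _ ⟨r, -, t, rfl⟩
  exact xg_mem_group gE6 r t

/-- σ acts on the block by squaring the entries. -/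
theorem sg_L16 {g : GL chevE6.Idx F} (hg : g ∈ L16 F) :
    sg F g ∈ L16 F ∧ rhoM (sg F g) = (rhoM g).map (frobenius F 2) := by
  refine L16_induction (P := fun g => sg F g ∈ L16 F ∧ rhoM (sg F g) = (rhoM g).map (frobenius F 2))
    ⟨by rw [map_one]; exact one_mem _, by rw [map_one, rhoM_one, Matrix.map_one _ (map_zero _) (map_one _)]⟩
    (fun r hr t => ?_) (fun a _ b hb pa pb => ⟨?_, ?_⟩) hg
  · have e : sg F (X r t) = X r (t ^ 2) := by rw [sg_X (rR_lt r hr), (rR_rhoT r hr).1]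
    show sg F (X r t) ∈ L16 F ∧ rhoM (sg F (X r t)) = (rhoM (X r t)).map (frobenius F 2)
    rw [e]
    refine ⟨X_mem_L16 hr _, ?_⟩
    rw [rhoM_X hr, rhoM_X hr]
    ext i j
    rw [Matrix.map_apply, SLGen.tv_apply, SLGen.tv_apply, map_add]
    congr 1 <;> split_ifs <;> simp [frobenius_def]
  · show sg F (a * b) ∈ L16 F
    rw [map_mul]; exact mul_mem pa.1 pb.1
  · show rhoM (sg F (a * b)) = (rhoM (a * b)).map (frobenius F 2)
    rw [map_mul, rhoM_L16_mul _ pb.1, rhoM_L16_mul _ hb, pa.2, pb.2, Matrix.map_mul]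

/-! ### Words and diagonal elements on the coordinates -/

theorem Nw_ev (l : Word) {s : ℕ} (hs : s < chevE6.nroots) :
    (Nw F l : Matrix chevE6.Idx chevE6.Idx F) *ᵥ Chev.ev chevE6 F s = Chev.ev chevE6 F (wlT l s) := by
  induction l with
  | nil => simp [Nw, wlT]
  | cons i l ih =>
    show ((ng gE6 F (chevE6.simple i.val) 1 * Nw F l : GL chevE6.Idx F) : Matrix chevE6.Idx chevE6.Idx F) *ᵥ _ = _
    have hi := gE6.simple_lt i.val i.isLt
    have hq := wlT_lt l hs
    rw [Units.val_mul, ← Matrix.mulVec_mulVec, ih, coe_ng, gE6.n_root hi hq one_ne_zero, _root_.one_zpow, mul_one,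
      TwistE6Invol.cast_eq_one (by rcases (nSign_cases gE6 hi hq).1 with h | h <;> rw [h] <;> rfl), one_smul,
      wlT_cons, ← (wN_eq i hq).1]
    rfl

theorem Nw_entry (l : Word) {s : ℕ} (hs : s < chevE6.nroots) (a : chevE6.Idx) :
    (Nw F l : Matrix chevE6.Idx chevE6.Idx F) a (Sum.inr ⟨s, hs⟩) = Chev.ev chevE6 F (wlT l s) a := by
  rw [← Nw_ev l hs, Chev.mulVec_ev chevE6 _ hs]

theorem theta_Nw_entry (c : Fin chevE6.rank → Fˣ) (l : Word) {s : ℕ} (hs : s < chevE6.nroots) {q : ℕ}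
    (hq : q < chevE6.nroots) :
    ((theta chevE6 F c * Nw F l : GL chevE6.Idx F) : Matrix chevE6.Idx chevE6.Idx F)
      (Sum.inr ⟨q, hq⟩) (Sum.inr ⟨s, hs⟩) = if q = wlT l s then (chiX c q : F) else 0 := by
  rw [Units.val_mul, TwistE6D4.coe_theta, dg, Matrix.diagonal_mul, Nw_entry l hs]
  simp [Chev.ev, mul_ite]

/-! ### The unipotent part -/

/-- Unitriangular matrices supported on the positions of `T`. -/
def Pat (T : Finset ℕ) (M : Matrix (Fin 4) (Fin 4) F) : Prop :=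
  (∀ i, M i i = 1) ∧ ∀ i j, i ≠ j → M i j ≠ 0 → ∃ r ∈ T, pos r = (i, j)

theorem Pat.mul {T : Finset ℕ} (hT : ∀ r ∈ T, r ∈ rPos)
    (hcl : ∀ r ∈ T, ∀ s ∈ T, s ≠ r → ∀ τ ∈ chevE6.commTerms r s, τ.1 ∈ T)
    {M N : Matrix (Fin 4) (Fin 4) F} (hM : Pat T M) (hN : Pat T N) : Pat T (M * N) := by
  refine ⟨fun i => ?_, fun i j hij h => ?_⟩
  · rw [Matrix.mul_apply, Finset.sum_eq_single i, hM.1, hN.1, one_mul]
    · intro l _ hl
      by_contra h
      obtain ⟨r, hr, e⟩ := hM.2 i l (Ne.symm hl) (left_ne_zero_of_mul h)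
      obtain ⟨s, hs, e'⟩ := hN.2 l i hl (right_ne_zero_of_mul h)
      have h1 := pos_upper r (hT r hr)
      have h2 := pos_upper s (hT s hs)
      rw [e] at h1
      rw [e'] at h2
      exact lt_asymm h1 h2
    · simp
  · rw [Matrix.mul_apply] at h
    obtain ⟨l, -, hl⟩ := Finset.exists_ne_zero_of_sum_ne_zero h
    by_cases h1 : l = i
    · subst h1; exact hN.2 _ _ hij (right_ne_zero_of_mul hl)
    by_cases h2 : l = j
    · subst h2; exact hM.2 _ _ hij (left_ne_zero_of_mul hl)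
    obtain ⟨r, hr, e⟩ := hM.2 i l (Ne.symm h1) (left_ne_zero_of_mul hl)
    obtain ⟨s, hs, e'⟩ := hN.2 l j h2 (right_ne_zero_of_mul hl)
    obtain ⟨hne, τ, hτ, eτ⟩ := pos_sum r (hT r hr) s (hT s hs) (by rw [e, e'])
    exact ⟨τ.1, hcl r hr s hs hne τ hτ, by rw [eτ, e, e']⟩

theorem genBy_le_L16 {T : Set ℕ} (hT : ∀ r ∈ T, r ∈ rPos) :
    (ChevOrder.matSys chevE6 gE6 F).genBy T ≤ L16 F := by
  refine (Subgroup.closure_le _).2 ?_
  rintro _ ⟨q, hq, t, rfl⟩
  exact X_mem_L16 (rPos_sub q (hT q hq)).1 t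

theorem UR_le_L16 : UR F ≤ L16 F := genBy_le_L16 fun _ h => h

theorem pat_genBy {T : Finset ℕ} (hT : ∀ r ∈ T, r ∈ rPos)
    (hcl : ∀ r ∈ T, ∀ s ∈ T, s ≠ r → ∀ τ ∈ chevE6.commTerms r s, τ.1 ∈ T)
    {g : GL chevE6.Idx F} (hg : g ∈ (ChevOrder.matSys chevE6 gE6 F).genBy (T : Set ℕ)) : Pat T (rhoM g) := by
  have hgen : ∀ q ∈ T, ∀ t : F, Pat T (rhoM (X q t)) := by
    intro q hq t
    have hR := (rPos_sub q (hT q hq)).1
    rw [rhoM_X hR]
    refine ⟨fun i => ?_, fun i j hij h => ⟨q, hq, ?_⟩⟩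
    · rw [SLGen.tv_apply, if_pos rfl, if_neg fun h => pos_ne q hR (h.1.symm.trans h.2), add_zero]
    · rw [SLGen.tv_apply, if_neg hij, zero_add] at h
      by_contra hne
      exact h (if_neg fun e => hne (Prod.ext e.1.symm e.2.symm))
  refine Subgroup.closure_induction'' (p := fun g _ => Pat T (rhoM g)) ?_ ?_ ?_ ?_ hg
  · rintro _ ⟨q, hq, t, rfl⟩; exact hgen q hq t
  · rintro _ ⟨q, hq, t, rfl⟩
    show Pat T (rhoM ((xg gE6 F q t)⁻¹))
    rw [xg_inv]; exact hgen q hq (-t)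
  · rw [rhoM_one]
    exact ⟨fun i => Matrix.one_apply_eq i, fun i j hij h => absurd (Matrix.one_apply_ne hij) h⟩
  · intro a b _ hb pa pb
    rw [rhoM_L16_mul a (genBy_le_L16 (fun r hr => hT r hr) hb)]
    exact pa.mul hT hcl pb

theorem genBy_inj [Finite F] : ∀ (m : ℕ) (T : Finset ℕ), T.card = m → (∀ r ∈ T, r ∈ rPos) →
    (∀ r ∈ T, ∀ s ∈ T, s ≠ r → ∀ τ ∈ chevE6.commTerms r s, τ.1 ∈ T) →
    ∀ g ∈ (ChevOrder.matSys chevE6 gE6 F).genBy (T : Set ℕ), rhoM g = 1 → g = 1 := by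
  intro m
  induction m with
  | zero =>
    intro T hT _ _ g hg _
    rw [Finset.card_eq_zero] at hT
    subst hT
    simpa [Sys.genBy] using hg
  | succ m ih =>
    intro T hT hsub hcl g hg h1
    obtain ⟨o, ho⟩ := gE6.order
    have hpos : ∀ q ∈ T, q < chevE6.nroots ∧ 0 < o q := fun q hq => by
      obtain ⟨-, h2, h3⟩ := rPos_sub q (hsub q hq)
      exact ⟨h2, (ho.pos_iff q h2).1 ((pos_iff h2).2 h3)⟩
    obtain ⟨k, hk, hcard, hcl', -, hdec, -, -, -⟩ :=
      ChevFixed.genBy_step (F := F) gE6 (⟨ho.add, ho.neg⟩ : IsLin chevE6 o) hT hpos hcl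
    obtain ⟨t, g', hg', rfl⟩ := hdec g hg
    have hsub' : ∀ r ∈ T.erase k, r ∈ rPos := fun r hr => hsub r (Finset.mem_of_mem_erase hr)
    have hp := pat_genBy hsub' hcl' hg'
    have hkR := (rPos_sub k (hsub k hk)).1
    have hij := pos_ne k hkR
    have hM : rhoM g' (pos k).1 (pos k).2 = 0 := by
      by_contra h
      obtain ⟨r, hr, e⟩ := hp.2 _ _ hij h
      exact Finset.ne_of_mem_erase hr (pos_inj r (hsub' r hr) k (hsub k hk) e)
    rw [rhoM_L16_mul _ (genBy_le_L16 (fun r hr => hsub' r hr) hg'), rhoM_X hkR] at h1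
    have ht : t = 0 := by
      have e := congrFun (congrFun h1 (pos k).1) (pos k).2
      rwa [SLGen.tv_mul_apply, if_pos rfl, hM, hp.1, mul_one, zero_add, Matrix.one_apply_ne hij] at e
    subst ht
    rw [xg_zero, one_mul]
    refine ih _ hcard hsub' hcl' g' hg' ?_
    rwa [Matrix.transvection_zero, one_mul] at h1

theorem UR_inj [Finite F] {g : GL chevE6.Idx F} (hg : g ∈ UR F) (h : rhoM g = 1) : g = 1 := by
  refine genBy_inj _ rPos.toFinset rfl (fun r hr => List.mem_toFinset.1 hr)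
    (fun r hr s hs hne τ hτ => ?_) g ?_ h
  · exact List.mem_toFinset.2 (rPos_closed r (List.mem_toFinset.1 hr) s (List.mem_toFinset.1 hs) hne τ hτ)
  · refine Subgroup.closure_mono ?_ hg
    rintro x ⟨q, hq, t, e⟩
    exact ⟨q, List.mem_toFinset.2 hq, t, e⟩

/-! ### Injectivity -/

theorem prT_eq {r s : ℕ} (hr : r < chevE6.nroots) (hs : s < chevE6.nroots) :
    chevE6.pairing r s = prT r s := by
  rw [Chev.pairing_eq_sum]
  simp only [fun i : Fin chevE6.rank => coT_eq i r hr, fun i : Fin chevE6.rank => caT_eq i s hs]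
  exact Fin.sum_univ_six (fun i : Fin 6 => coT r i.val * caT i.val s)

theorem prT_wlT (l : Word) {r s : ℕ} (hr : r < chevE6.nroots) (hs : s < chevE6.nroots) :
    prT (wlT l r) (wlT l s) = prT r s := by
  induction l with
  | nil => rfl
  | cons i l ih =>
    have h1 := wlT_lt l hr
    have h2 := wlT_lt l hs
    rw [wlT_cons, wlT_cons, ← prT_eq (wN_eq i h1).2 (wN_eq i h2).2, ← (wN_eq i h1).1, ← (wN_eq i h2).1,
      pairing_refl gE6 slRootsE6 i.isLt h1 h2, prT_eq h1 h2, ih]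

theorem wlT_id {l : Word} (h : ∀ m, wlT l (six m) = six m) {r : ℕ} (hr : r < chevE6.nroots) : wlT l r = r :=
  six_sepT _ (wlT_lt l hr) r hr fun m => by
    conv_lhs => rw [← h m]
    exact prT_wlT l hr (six_lt m)

theorem theta_eq_one_of_six {c : Fin chevE6.rank → Fˣ} (h : ∀ m, chiX c (six m) = 1) :
    theta chevE6 F c = 1 := by
  refine (TwistE6D4.mem_ker_theta gE6 TwistE6D4.e6_cartan c).2 fun k => ?_
  set u := chiX c (chevE6.simple k.val) with hu
  have h2 : u ^ (2 : ℤ) = ∏ m : Fin 6, chiX c (six m) ^ coef6 k m := by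
    simp only [hu, chiX, ← Finset.prod_zpow, ← _root_.zpow_mul]
    rw [Finset.prod_comm]
    refine Finset.prod_congr rfl fun i _ => ?_
    rw [TwistE6D4.zpow_sum]
    congr 1
    rw [caT_eq i _ (gE6.simple_lt k.val k.isLt), simpleT, mul_comm, coef6_eq]
    exact Finset.sum_congr rfl fun m _ => by rw [caT_eq i _ (six_lt m), mul_comm]
  have h3 : (u : F) ^ 2 = 1 := by
    have h4 : u ^ (2 : ℤ) = 1 := h2.trans (Finset.prod_eq_one fun m _ => by rw [h m, _root_.one_zpow])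
    have h5 := congrArg (Units.val) h4
    rw [Units.val_zpow_eq_zpow_val, Units.val_one] at h5
    exact_mod_cast h5
  refine Units.ext ?_
  rw [Units.val_one]
  have h6 : ((u : F) + 1) ^ 2 = 0 := by rw [CharTwo.add_sq, h3, one_pow, CharTwo.add_self_eq_zero]
  exact CharTwo.add_eq_zero.1 (pow_eq_zero_iff two_ne_zero |>.1 h6)

theorem rhoM_inj [Finite F] {ζ : Fˣ} (hζ : orderOf ζ = 5) {z : GL chevE6.Idx F} (hz : z ∈ L16 F)
    (h1 : rhoM z = 1) : z = 1 := by
  obtain ⟨u, hu, t, ht, l, v, hv, rfl, -⟩ := exists_form (tor_mem_diag (ζ := ζ) (vec 1 0))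
    (χ := fun r => pz ζ (ev (vec 1 0) r)) (fun q hq w => tor_scale hζ _ hq w)
    (fun q hq hp h => (e1_zero q hq ((pos_iff hq).1 hp)).1 (by
      rw [pz_eq_one hζ, ev10 q hq, ZMod.natCast_eq_zero_iff] at h
      exact Nat.mod_eq_zero_of_dvd h))
    (L16_le_group hz) (L16_commute_tor hζ hz).eq
  have hu' := UR_le_L16 hu
  have hv' := UR_le_L16 hv
  set m := t * Nw F l with hm
  have hmem : m ∈ L16 F := by
    rw [show m = u⁻¹ * (u * t * Nw F l * v) * v⁻¹ by rw [hm]; group]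
    exact mul_mem (mul_mem (inv_mem hu') hz) (inv_mem hv')
  have hP : Pat rPos.toFinset (rhoM (u⁻¹ * v⁻¹)) := by
    refine pat_genBy (fun r hr => List.mem_toFinset.1 hr) (fun r hr s hs hne τ hτ =>
      List.mem_toFinset.2 (rPos_closed r (List.mem_toFinset.1 hr) s (List.mem_toFinset.1 hs) hne τ hτ)) ?_
    refine Subgroup.closure_mono ?_ (mul_mem (inv_mem hu) (inv_mem hv))
    rintro x ⟨q, hq, w, e⟩
    exact ⟨q, List.mem_toFinset.2 hq, w, e⟩
  have hrm : rhoM m = rhoM (u⁻¹ * v⁻¹) := by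
    rw [show m = u⁻¹ * (u * t * Nw F l * v) * v⁻¹ by rw [hm]; group, rhoM_L16_mul _ (inv_mem hv'),
      rhoM_L16_mul _ hz, h1, mul_one, rhoM_L16_mul _ (inv_mem hv')]
  obtain ⟨c, rfl⟩ : ∃ c, theta chevE6 F c = t := by
    rw [← ChevOrder.torusHom_range gE6] at ht
    obtain ⟨c, rfl⟩ := ht
    exact ⟨c, Units.ext rfl⟩
  have hS : ∀ i, wlT l (sS i) = sS i ∧ chiX c (sS i) = 1 := by
    intro i
    have e : (m : Matrix chevE6.Idx chevE6.Idx F) (sI i) (sI i) = 1 := by
      have := hP.1 i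
      rw [← hrm] at this
      exact this
    rw [hm, sI, theta_Nw_entry c l (sS_lt i) (sS_lt i)] at e
    split_ifs at e with he
    · exact ⟨he.symm, Units.ext e⟩
    · exact absurd e zero_ne_one
  have hab : ∀ s ∈ ([42, 37] : List ℕ), wlT l s = s ∧ chiX c s = 1 := by
    intro s hs
    have hs4 : s ∈ ([42, 37, 29, 34] : List ℕ) := by
      simp only [List.mem_cons, List.not_mem_nil, or_false] at hs ⊢
      rcases hs with rfl | rfl <;> simp
    have hlt : s < chevE6.nroots := by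
      simp only [List.mem_cons, List.not_mem_nil, or_false] at hs
      rcases hs with rfl | rfl <;> decide
    have e := (L16_commute_ab hmem hs4 (1 : F)).eq
    rw [← mul_inv_eq_iff_eq_mul, hm] at e
    have e' : theta chevE6 F c * (Nw F l * X s 1 * (Nw F l)⁻¹) * (theta chevE6 F c)⁻¹ = X s (1 : F) := by
      conv_rhs => rw [← e]
      group
    rw [Nw_conj l hlt, X, TwistE6D4.xg_eq gE6, TwistE6D4.theta_conj_gx gE6 _ (wlT_lt l hlt), mul_one] at e'
    obtain ⟨e1', e2'⟩ := X_inj (wlT_lt l hlt) hlt (Units.ne_zero _) e'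
    rw [e1'] at e2'
    exact ⟨e1', Units.ext e2'⟩
  have hsix : ∀ k, wlT l (six k) = six k ∧ chiX c (six k) = 1 := fun k => by
    rcases six_cases k with ⟨i, e⟩ | e | e <;> rw [e]
    exacts [hS i, hab 42 (by simp), hab 37 (by simp)]
  have hN : Nw F l = 1 := by
    rw [Nw_eq (l' := []) fun r hr => wlT_id (fun k => (hsix k).1) hr]; rfl
  have hz' : u * theta chevE6 F c * Nw F l * v = u * v := by
    rw [hN, theta_eq_one_of_six fun k => (hsix k).2, mul_one, mul_one]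
  rw [hz'] at h1 ⊢
  exact UR_inj (mul_mem hu hv) h1

theorem rhoS_bijective [Finite F] {ζ : Fˣ} (hζ : orderOf ζ = 5) : Function.Bijective (rhoS F) :=
  ⟨(injective_iff_map_eq_one _).2 fun a ha => Subtype.ext (rhoM_inj hζ a.2 (congrArg Subtype.val ha)),
    rhoS_surjective⟩

theorem L16_ext [Finite F] {ζ : Fˣ} (hζ : orderOf ζ = 5) {a b : GL chevE6.Idx F} (ha : a ∈ L16 F)
    (hb : b ∈ L16 F) (h : rhoM a = rhoM b) : a = b :=
  congrArg Subtype.val ((rhoS_bijective hζ).1 (a₁ := ⟨a, ha⟩) (a₂ := ⟨b, hb⟩) (Subtype.ext h))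

end Cfsg.Agent.TwistE6Five
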