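import Cfsg.Agent.Lib.TwistE6Five.Cent
import Cfsg.Agent.Lib.Linear.AltEight
import Cfsg.Agent.Lib.TwistE6D4.Orders
import Mathlib.FieldTheory.Finite.GaloisField

/-!
# Elements of order five in ²E₆(2): conjugacy and centraliser

`all_conj`, `cent_equiv` over the field with sixteen elements; `exists_equiv` moves the twisted group over a
field with four elements there.
-/

set_option autoImplicit false
set_option linter.unusedSectionVars false

namespace Cfsg.Agent.TwistE6Five

open Cfsg.Lie Cfsg.Lie.ChevalleyDatum Cfsg.Agent.Chev Cfsg.Agent.ChevBN Matrix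

variable {F : Type*} [Field F] [CharP F 2] [Finite F] {ζ : Fˣ} (hζ : orderOf ζ = 5)
  (h15 : ∀ u : Fˣ, u ^ 15 = 1)

/-- The distinguished element of order five. -/
noncomputable def x5 : ↥(G16 F) := ⟨el hζ 1 0, el_mem hζ h15 1 0⟩

include hζ h15

/-- All elements of order five are conjugate to the distinguished one. -/
theorem all_conj {m : ℕ} (hcard : Nat.card ↥(G16 F) = 25 * m) (hm : ¬ 5 ∣ m) (y : ↥(G16 F))
    (hy : orderOf y = 5) : IsConj (x5 hζ h15) y := by
  haveI : Fact (Nat.Prime 5) := ⟨by norm_num⟩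
  have hP : Nat.card (elHom hζ h15).range = 5 ^ 2 := by
    rw [← Nat.card_congr (MonoidHom.ofInjective (elHom_injective hζ h15)).toEquiv]
    simp [Nat.card_prod, Nat.card_zmod]
  obtain ⟨Q, hQ⟩ := (IsPGroup.of_card hP).exists_le_sylow
  have hQc : Nat.card Q = 5 ^ 2 := by
    rw [Sylow.card_eq_multiplicity, hcard]
    congr 1
    have hm0 : m ≠ 0 := fun h => hm (h ▸ dvd_zero 5)
    rw [Nat.factorization_mul (by norm_num) hm0, Finsupp.add_apply, Nat.factorization_eq_zero_of_not_dvd hm,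
      add_zero, show (25 : ℕ) = 5 ^ 2 by norm_num, Nat.Prime.factorization_pow (by norm_num)]
    simp
  have hQeq : (elHom hζ h15).range = Q := Subgroup.eq_of_le_of_card_ge hQ (by rw [hP]; exact hQc.le)
  have hz : IsPGroup 5 (Subgroup.zpowers y) :=
    IsPGroup.of_card (n := 1) (by rw [Nat.card_zpowers, hy, pow_one])
  obtain ⟨Q', hQ'⟩ := hz.exists_le_sylow
  obtain ⟨c, hc⟩ := MulAction.exists_smul_eq (↥(G16 F)) Q' Q
  have h1 : c * y * c⁻¹ ∈ (elHom hζ h15).range := by
    rw [hQeq, ← hc, Sylow.coe_subgroup_smul]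
    exact ⟨y, hQ' (Subgroup.mem_zpowers y), rfl⟩
  obtain ⟨p, hp⟩ := h1
  have hp1 : ¬ (p.toAdd.1 = 0 ∧ p.toAdd.2 = 0) := fun h => by
    have e : p = 1 := Multiplicative.toAdd.injective (Prod.ext h.1 h.2)
    rw [e, map_one, eq_comm, conj_eq_one_iff] at hp
    rw [hp, orderOf_one] at hy
    norm_num at hy
  obtain ⟨w, hw, e⟩ := exists_conj hζ h15 hp1
  have h2 : IsConj (x5 hζ h15) (elHom hζ h15 p) := isConj_iff.2 ⟨⟨w, hw⟩, Subtype.ext e⟩
  exact h2.trans (isConj_iff.2 ⟨c⁻¹, by rw [hp]; group⟩)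

omit h15

/-- The fixed elements of `L16` from the matrices over the prime field. -/
noncomputable def lift2 : Matrix.SpecialLinearGroup (Fin 4) (ZMod 2) →* ↥(L16 F) :=
  (MulEquiv.ofBijective (rhoS F) (rhoS_bijective hζ)).symm.toMonoidHom.comp
    (Matrix.SpecialLinearGroup.map (ZMod.castHom (dvd_refl 2) F))

theorem rhoM_lift2 (A : Matrix.SpecialLinearGroup (Fin 4) (ZMod 2)) :
    rhoM (lift2 hζ A).1 = (A : Matrix (Fin 4) (Fin 4) (ZMod 2)).map (ZMod.castHom (dvd_refl 2) F) :=
  congrArg Subtype.val ((MulEquiv.ofBijective (rhoS F) (rhoS_bijective hζ)).apply_symm_apply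
    (Matrix.SpecialLinearGroup.map (ZMod.castHom (dvd_refl 2) F) A))

theorem lift2_fixed (A : Matrix.SpecialLinearGroup (Fin 4) (ZMod 2)) :
    sg F (lift2 hζ A).1 = (lift2 hζ A).1 := by
  obtain ⟨h1, h2⟩ := sg_L16 (lift2 hζ A).2
  refine L16_ext hζ h1 (lift2 hζ A).2 ?_
  rw [h2, rhoM_lift2]
  ext i j
  simp only [Matrix.map_apply, frobenius_def, ← map_pow]
  congr 1
  exact (by decide : ∀ a : ZMod 2, a ^ 2 = a) _

theorem el_commute_L16 (i : ZMod 5) {l : GL chevE6.Idx F} (hl : l ∈ L16 F) : Commute (el hζ i 0) l := by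
  rw [el_scalar hζ i]
  exact (((gg_commute hl).mul_right (tor_scalar_commute hζ i hl)).mul_right (gg_commute hl).inv_right).symm

include h15

theorem lift2_mem (A : Matrix.SpecialLinearGroup (Fin 4) (ZMod 2)) : (lift2 hζ A).1 ∈ G16 F :=
  mem_G0_of_fixed h15 (L16_le_group (lift2 hζ A).2) (lift2_fixed hζ A)

/-- The homomorphism onto the centraliser. -/
noncomputable def centHom : Multiplicative (ZMod 5) × Matrix.SpecialLinearGroup (Fin 4) (ZMod 2) →*
    ↥(Subgroup.centralizer ({x5 hζ h15} : Set ↥(G16 F))) where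
  toFun p := ⟨⟨el hζ p.1.toAdd 0 * (lift2 hζ p.2).1, mul_mem (el_mem hζ h15 _ _) (lift2_mem hζ h15 p.2)⟩, by
    rw [Subgroup.mem_centralizer_singleton_iff]
    refine Subtype.ext (((Commute.mul_left ?_ (el_commute_L16 hζ 1 (lift2 hζ p.2).2).symm)).eq)
    show el hζ p.1.toAdd 0 * el hζ 1 0 = el hζ 1 0 * el hζ p.1.toAdd 0
    rw [← el_mul, ← el_mul, add_comm]⟩
  map_one' := Subtype.ext (Subtype.ext (by
    show el hζ 0 0 * (lift2 hζ 1).1 = 1
    rw [el, tor_zero hζ, map_one, OneMemClass.coe_one]; group))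
  map_mul' p q := Subtype.ext (Subtype.ext (by
    show el hζ (p.1.toAdd + q.1.toAdd) 0 * (lift2 hζ (p.2 * q.2)).1 =
      (el hζ p.1.toAdd 0 * (lift2 hζ p.2).1) * (el hζ q.1.toAdd 0 * (lift2 hζ q.2).1)
    have e : el hζ (p.1.toAdd + q.1.toAdd) 0 = el hζ p.1.toAdd 0 * el hζ q.1.toAdd 0 := by
      conv_lhs => rw [show (0 : ZMod 5) = 0 + 0 from (add_zero 0).symm]
      exact el_mul hζ _ _ _ _
    rw [e, map_mul, Subgroup.coe_mul]
    simp only [mul_assoc]
    congr 1
    rw [← mul_assoc, (el_commute_L16 hζ _ (lift2 hζ p.2).2).eq, mul_assoc]))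

theorem centHom_bijective : Function.Bijective (centHom hζ h15) := by
  refine ⟨(injective_iff_map_eq_one _).2 ?_, ?_⟩
  · rintro ⟨a, A⟩ h
    have h1 : el hζ a.toAdd 0 * (lift2 hζ A).1 = 1 := congrArg (fun z => z.1.1) h
    have h2 : el hζ a.toAdd 0 ∈ L16 F := by
      rw [eq_inv_of_mul_eq_one_left h1]; exact inv_mem (lift2 hζ A).2
    have h3 : tor ζ (vec a.toAdd 0) ∈ L16 F := by
      rw [show tor ζ (vec a.toAdd 0) = (gg ζ)⁻¹ * el hζ a.toAdd 0 * gg ζ by rw [el_scalar hζ]; group,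
        mul_assoc, (gg_commute h2).eq, inv_mul_cancel_left]
      exact h2
    have h4 := (L16_commute_ab h3 (s := 42) (by simp) (1 : F)).eq
    rw [← mul_inv_eq_iff_eq_mul, tor_conj hζ _ (show (42 : ℕ) < chevE6.nroots by decide)] at h4
    have h5 : pz ζ (ev (vec a.toAdd 0) 42) = 1 :=
      Units.ext (by simpa using (X_inj (show (42 : ℕ) < chevE6.nroots by decide) (by decide)
        (by simp) h4).2)
    rw [pz_eq_one hζ, ev_scalar hζ _ (show (42 : ℕ) < chevE6.nroots by decide), ← ZMod.natCast_mod,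
      e1_a.1] at h5
    have ha : a = 1 := Multiplicative.toAdd.injective
      ((by decide : ∀ t : ZMod 5, t * ((2 : ℕ) : ZMod 5) = 0 → t = 0) _ h5)
    subst ha
    have h6 : (lift2 hζ A).1 = 1 := by
      rw [show el hζ (Multiplicative.toAdd (1 : Multiplicative (ZMod 5))) 0 = 1 by
        rw [toAdd_one, el, tor_zero hζ]; group, one_mul] at h1
      exact h1
    have h7 := rhoM_lift2 hζ A
    rw [h6, rhoM_one] at h7
    refine Prod.ext rfl (Subtype.ext ?_)
    refine Matrix.map_injective (ZMod.castHom (dvd_refl 2) F).injective (h7.symm.trans ?_)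
    simp [Matrix.map_one]
  · rintro ⟨⟨y, hy⟩, hyc⟩
    rw [Subgroup.mem_centralizer_singleton_iff] at hyc
    obtain ⟨i, l, hl, hls, e⟩ := exists_decomp hζ h15 hy (congrArg Subtype.val hyc)
    obtain ⟨-, h2⟩ := sg_L16 hl
    rw [hls] at h2
    have h01 : ∀ a b, rhoM l a b = 0 ∨ rhoM l a b = 1 := fun a b => by
      have h3 : rhoM l a b = frobenius F 2 (rhoM l a b) := congrFun (congrFun h2 a) b
      have h4 : rhoM l a b * (rhoM l a b - 1) = 0 := by rw [frobenius_def] at h3; linear_combination -h3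
      exact (mul_eq_zero.1 h4).imp_right sub_eq_zero.1
    classical
    set A : Matrix (Fin 4) (Fin 4) (ZMod 2) := Matrix.of fun a b => if rhoM l a b = 0 then 0 else 1
    have hA : A.map (ZMod.castHom (dvd_refl 2) F) = rhoM l := by
      ext a b
      simp only [A, Matrix.map_apply, Matrix.of_apply]
      rcases h01 a b with h | h <;> simp [h]
    have hdet : A.det = 1 := (ZMod.castHom (dvd_refl 2) F).injective (by
      rw [RingHom.map_det, map_one, RingHom.mapMatrix_apply, hA, det_rhoM hl])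
    refine ⟨(Multiplicative.ofAdd i, ⟨A, hdet⟩), Subtype.ext (Subtype.ext ?_)⟩
    show el hζ i 0 * (lift2 hζ ⟨A, hdet⟩).1 = y
    rw [e, L16_ext hζ (lift2 hζ ⟨A, hdet⟩).2 hl ((rhoM_lift2 hζ ⟨A, hdet⟩).trans hA)]

/-- The centraliser of the distinguished element. -/
theorem cent_equiv :
    Nonempty (↥(Subgroup.centralizer ({x5 hζ h15} : Set ↥(G16 F))) ≃*
      (Multiplicative (ZMod 5) × ↥(alternatingGroup (Fin 8)))) := by
  obtain ⟨e⟩ := Linear.nonempty_slFour_two
  exact ⟨(MulEquiv.ofBijective _ (centHom_bijective hζ h15)).symm.trans ((MulEquiv.refl _).prodCongr e)⟩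

omit hζ h15

/-- Fixed orbit parameters of F₁₆ come from F₄: the twisted group over F₄ is the one over F₁₆. -/
theorem exists_equiv {K : Type*} [Field K] [Fintype K] (hK : Fintype.card K = 4) (ι : K →+* F) :
    Nonempty (↥(twistedE6 K 2) ≃* ↥(G16 F)) := by
  obtain ⟨φK, e, hH⟩ := TwistE6D4.exists_ctxE6 (K := K) gE6 (q := 2) Nat.prime_two.isPrimePow (by rw [hK]; norm_num)
  set CK := TwistE6D4.ctxE6 gE6 φK with hCK
  set CF := TwistE6D4.ctxE6 gE6 (frobenius F 2) with hCF
  have hit : ∀ (k : ℕ) (t : K), ι ((⇑φK)^[k] t) = (⇑(frobenius F 2))^[k] (ι t) := by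
    intro k t
    induction k with
    | zero => rfl
    | succ k ih =>
      rw [Function.iterate_succ_apply', Function.iterate_succ_apply', ← ih, frobenius_def,
        show φK ((⇑φK)^[k] t) = ((⇑φK)^[k] t) ^ 2 from hH.pow _, map_pow]
  have hop : ∀ (a : Fin 4) (t : K), ChevFixed.mapG chevE6 ι (CK.op a t) = CF.op a (ι t) ∧
      ChevFixed.mapG chevE6 ι (CK.om a t) = CF.om a (ι t) := by
    intro a t
    constructor <;>
    · simp only [TwistE6D4.Ctx.op, TwistE6D4.Ctx.om, TwistE6D4.Ctx.oprod, map_list_prod, List.map_map]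
      refine congrArg List.prod (List.map_congr_left fun k _ => ?_)
      rw [Function.comp_apply, TwistE6D4.gx, ChevFixed.mapG_xg, hit]
      rfl
  have hroot : ∀ t : F, t ^ 4 = t → ∃ s, ι s = t := by
    intro t ht
    classical
    let p : Polynomial F := Polynomial.X ^ 4 - Polynomial.X
    have hp : p ≠ 0 := fun h => by simpa [p, Polynomial.coeff_X] using congrArg (fun q => q.coeff 4) h
    have hmem : ∀ u : F, u ^ 4 = u → u ∈ p.roots.toFinset := fun u hu => by
      rw [Multiset.mem_toFinset, Polynomial.mem_roots hp]; simp [p, hu]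
    have hsub : Finset.univ.image ι ⊆ p.roots.toFinset := by
      intro u hu
      obtain ⟨s, -, rfl⟩ := Finset.mem_image.1 hu
      refine hmem _ ?_
      rw [← map_pow, ← hK, FiniteField.pow_card]
    have hle : p.roots.toFinset.card ≤ (Finset.univ.image ι).card := by
      rw [Finset.card_image_of_injective _ ι.injective, Finset.card_univ, hK]
      refine (Multiset.toFinset_card_le _).trans ((Polynomial.card_roots' p).trans ?_)
      simp only [p]
      compute_degree
    have := Finset.eq_of_subset_of_card_le hsub hle ▸ hmem t ht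
    obtain ⟨s, -, hs⟩ := Finset.mem_image.1 this
    exact ⟨s, hs⟩
  have himg : CK.G0.map (ChevFixed.mapG chevE6 ι) = CF.G0 := by
    rw [TwistE6D4.Ctx.G0, MonoidHom.map_closure]
    refine congrArg Subgroup.closure (Set.ext fun g => ⟨?_, ?_⟩)
    · rintro ⟨_, ⟨a, t, ht, rfl | rfl⟩, rfl⟩
      · exact ⟨a, ι t, (hit _ t).symm.trans (congrArg ι ht), Or.inl (hop a t).1⟩
      · exact ⟨a, ι t, (hit _ t).symm.trans (congrArg ι ht), Or.inr (hop a t).2⟩
    · rintro ⟨a, t, ht, hg⟩
      have h4 : t ^ 4 = t := by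
        have hL : CF.L a = [1, 1, 2, 2].getD a.val 0 := TwistE6D4.e6_len a
        have ht' : (⇑(frobenius F 2))^[CF.L a] t = t := ht
        rw [hL] at ht'
        have hcases : ∀ b : Fin 4, ([1, 1, 2, 2] : List ℕ).getD b.val 0 = 1 ∨
            ([1, 1, 2, 2] : List ℕ).getD b.val 0 = 2 := by decide
        rcases hcases a with h | h <;> rw [h] at ht'
        · rw [Function.iterate_one, frobenius_def] at ht'
          rw [show (4 : ℕ) = 2 * 2 from rfl, pow_mul, ht', ht']
        · rw [Function.iterate_succ_apply', Function.iterate_one, frobenius_def, frobenius_def, ← pow_mul] at ht'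
          exact ht'
      obtain ⟨s, rfl⟩ := hroot t h4
      have hs : CK.Pm a s := ι.injective ((hit _ s).trans ht)
      rcases hg with rfl | rfl
      · exact ⟨_, ⟨a, s, hs, Or.inl rfl⟩, (hop a s).1⟩
      · exact ⟨_, ⟨a, s, hs, Or.inr rfl⟩, (hop a s).2⟩
  exact ⟨(MulEquiv.subgroupCongr e).trans ((CK.G0.equivMapOfInjective _ (ChevFixed.mapG_injective ι)).trans
    (MulEquiv.subgroupCongr himg))⟩

end Cfsg.Agent.TwistE6Five
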