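import Cfsg.Agent.Lib.TwistE6D4.DataRoot
import Cfsg.Agent.Lib.ChevLang.Regular

/-!
# Tables for the elements of order five of ²E₆(2)

All root data used for the torus normalised by the twisted word `wordN`: the roots `rR` orthogonal to the two
roots 42, 37 (type A₃), the four coordinates `sS` carrying their natural module, and the exponent vectors.
-/

set_option autoImplicit false
set_option maxRecDepth 100000

namespace Cfsg.Agent.TwistE6Five

open Cfsg.Lie Cfsg.Lie.ChevalleyDatum Cfsg.Agent.ChevLang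

/-- Words in the fundamental reflections of E₆. -/
abbrev Word := List (Fin chevE6.rank)

/-- A word from its letters. -/
def wd (l : List (Fin 6)) : Word := l

/-- The six-tuple of exponents. -/
def v6 {A : Type*} (f : Fin 6 → A) : Fin chevE6.rank → A := f

/-- The diagram symmetry on roots. -/
def rho (r : ℕ) : ℕ := TwistE6D4.e6Twist.rho r

/-- The diagram symmetry on words. -/
def piW (l : Word) : Word := l.map TwistE6D4.e6Twist.pi

/-- The twenty-five exponent vectors. -/
def vec (i j : ZMod 5) : Fin chevE6.rank → ZMod 5 := v6 ![3 * j, 3 * j, i, 2 * j, 2 * i, 3 * j]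

/-- The exponent of a vector at a root. -/
def ev (v : Fin chevE6.rank → ZMod 5) (r : ℕ) : ZMod 5 :=
  ∑ k : Fin chevE6.rank, v k * (chevE6.cartan k.val r : ZMod 5)

/-- The exponent of the basic element at a root. -/
def ex (r : ℕ) : ZMod 5 := ev (vec 1 0) r

/-! ### Packed copies of the tables -/

/-- The packed reflections. -/
def wT (i r : ℕ) : ℕ := (([0x47464544433736353433322d2c2b2a0f4241403f3e3d31302f2e3c3b3a39292827262524232221201f1e0e0d0c0b191817160a0908070605381d1c1b1a1514131211100403020100,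
  0x46474544434241403c3b3a3f3e3d39383736352d2c2b292827193433322a31302f2625242322211817161d1514132e201f1e1c1b1a1211100f0e0a09080d0c0b0706050403020001,
  0x47464241404544433f3e3d3c3b3a383937363531302f3433322e2928271d2d2c2b2625242322211c1b1a2a201f1e191514131817161211100e0f0d0c0b0a09080403020706050100,
  0x4745464443423f3e41403d3c3b393a3837343336353231302e2f2d2c2a2b262520292824231f1e2722211c1d1b1a181917161512111413100f0d0e0c0b0a07060908050403010200,
  0x47464445434142403f3d3e3c3a3b3938363735343233312f302e2d2b2c2a2927282422262125231f201e1d1b1c1a191718161415131210110f0e0c0d0b090a080705060402030100,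
  0x47464543444240413e3f3d3b3c3a393837353633343230312f2e2c2d2b2a282927252623242122201e1f1d1c1a1b191816171513141112100f0e0d0b0c0a08090607050304020100] : List ℕ).getD i 0 >>> (8 * r)) % 256

/-- The packed Cartan integers. -/
def caT (i r : ℕ) : ℤ := Int.subNatNat ((([0x888889999999999a77777788887777888888888888999988889999996777777777788888,
  0x9788888899977788888999999a7778777888888999899967777778888899977788888897,
  0x88999777888888978889997778999a777888888999677789997778889788888899977788,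
  0x89788899778889788997788897889799a778899677978897888997788978889977888978,
  0x8897897889789788978897897889788979a7967978897889789788978897897889789788,
  0x88897897978978888979789788978897897a697897889788978979788889789797897888] : List ℕ).getD i 0 >>> (4 * r)) % 16) 8

/-- The packed coroot coefficients. -/
def coT (r i : ℕ) : ℤ := Int.subNatNat ((([0x999999999999999988888888888888888888888888888888888888887777777777777777,
  0xa99999999998888899999999998888888888888888888877777777778888877777777776,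
  0xaaaaa9999999999899999988889999888888888888777788887777778777777777766666,
  0xbbaaaaaa99999988aaa99999989998999888888777877787777776668877777766666655,
  0xaaa99a9999899888a9999899889988998998877877887788778777768887787777677666,
  0x999989989889888899898898889888988989787887888788878878778888788787787777] : List ℕ).getD i 0 >>> (4 * r)) % 16) 8

/-- The packed symmetry of the roots. -/
def rhoT (r : ℕ) : ℕ := (0x47464542374441363f34313c2d2926244340353e33303d322f2e3b2c28253a2b27392a380f1d0e201c0d221f1b0c1918150a17140912070423211e1a0b1613081106031005020100 >>> (8 * r)) % 256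

/-- The exponents of the first basic vector. -/
def e1 (r : ℕ) : ℕ := (0x3411240230231423013441201342412243213341312403411240231423023013441200 >>> (4 * r)) % 16

/-- The exponents of the second basic vector. -/
def e2 (r : ℕ) : ℕ := (0x343323322113221122110010042110211101404443044310040044334433244332232212 >>> (4 * r)) % 16

/-- The exponent of a vector at a root, as a number. -/
def eN (i j : ZMod 5) (r : ℕ) : ℕ := (i.val * e1 r + j.val * e2 r) % 5

/-- The packed pairing. -/
def prT (r s : ℕ) : ℤ :=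
  coT r 0 * caT 0 s + coT r 1 * caT 1 s + coT r 2 * caT 2 s + coT r 3 * caT 3 s + coT r 4 * caT 4 s +
    coT r 5 * caT 5 s

/-- The action of a word by the packed tables. -/
def wlT (l : Word) (r : ℕ) : ℕ := l.foldr (fun i q => wT i.val q) r

theorem wT0 : ∀ r < chevE6.nroots, ChevBN.wN chevE6 0 r = wT 0 r ∧ wT 0 r < chevE6.nroots := by decide +kernel

theorem wT1 : ∀ r < chevE6.nroots, ChevBN.wN chevE6 1 r = wT 1 r ∧ wT 1 r < chevE6.nroots := by decide +kernel

theorem wT2 : ∀ r < chevE6.nroots, ChevBN.wN chevE6 2 r = wT 2 r ∧ wT 2 r < chevE6.nroots := by decide +kernel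

theorem wT3 : ∀ r < chevE6.nroots, ChevBN.wN chevE6 3 r = wT 3 r ∧ wT 3 r < chevE6.nroots := by decide +kernel

theorem wT4 : ∀ r < chevE6.nroots, ChevBN.wN chevE6 4 r = wT 4 r ∧ wT 4 r < chevE6.nroots := by decide +kernel

theorem wT5 : ∀ r < chevE6.nroots, ChevBN.wN chevE6 5 r = wT 5 r ∧ wT 5 r < chevE6.nroots := by decide +kernel

theorem caT_eq : ∀ i : Fin chevE6.rank, ∀ r < chevE6.nroots, chevE6.cartan i.val r = caT i.val r := by
  decide +kernel

theorem coT_eq : ∀ i : Fin chevE6.rank, ∀ r < chevE6.nroots,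
    (chevE6.coroot.getD r #[]).getD i.val 0 = coT r i.val := by decide +kernel

theorem rhoT_eq : ∀ r < chevE6.nroots, rho r = rhoT r ∧ rhoT r < chevE6.nroots := by decide +kernel

theorem posT : ∀ r < chevE6.nroots, chevE6.IsPosRoot r ↔ 36 ≤ r := by decide +kernel

theorem negT : ∀ r < chevE6.nroots, chevE6.neg r = 71 - r := by decide +kernel

theorem simpleT : ∀ i : Fin chevE6.rank, chevE6.simple i.val = ([56, 46, 42, 39, 37, 36] : List ℕ).getD i.val 0 := by
  decide +kernel

theorem wN_eq (i : Fin chevE6.rank) {r : ℕ} (hr : r < chevE6.nroots) :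
    ChevBN.wN chevE6 i.val r = wT i.val r ∧ wT i.val r < chevE6.nroots := by
  have h : i.val < 6 := i.isLt
  obtain h | h | h | h | h | h : i.val = 0 ∨ i.val = 1 ∨ i.val = 2 ∨ i.val = 3 ∨ i.val = 4 ∨ i.val = 5 := by
    omega
  all_goals rw [h]
  exacts [wT0 r hr, wT1 r hr, wT2 r hr, wT3 r hr, wT4 r hr, wT5 r hr]

theorem wl_eqT (l : Word) {r : ℕ} (hr : r < chevE6.nroots) :
    wl chevE6 l r = wlT l r ∧ wlT l r < chevE6.nroots := by
  induction l with
  | nil => exact ⟨rfl, hr⟩
  | cons i l ih =>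
    show ChevBN.wN chevE6 i.val (wl chevE6 l r) = wT i.val (wlT l r) ∧ wT i.val (wlT l r) < chevE6.nroots
    rw [ih.1]
    exact wN_eq i ih.2

/-- The positive roots orthogonal to 42 and 37. -/
def rPos : List ℕ := [46, 53, 60, 63, 70, 71]

/-- The roots orthogonal to 42 and 37. -/
def rR : List ℕ := rPos ++ [25, 18, 11, 8, 1, 0]

/-- The matrix position of a root of `rR`. -/
def pos (r : ℕ) : Fin 4 × Fin 4 :=
  match r with
  | 46 => (0, 1)
  | 53 => (2, 3)
  | 60 => (1, 2)
  | 63 => (0, 2)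
  | 70 => (1, 3)
  | 71 => (0, 3)
  | 25 => (1, 0)
  | 18 => (3, 2)
  | 11 => (2, 1)
  | 8 => (2, 0)
  | 1 => (3, 1)
  | _ => (3, 0)

/-- The coordinates of the natural module. -/
def sS (i : Fin 4) : ℕ := ![52, 45, 15, 7] i

/-- The reflections of the three fundamental roots 46, 60, 53 of `rR`. -/
def genW (i : Fin 3) : Word :=
  wd (![[1], [0, 2, 3, 4, 5, 4, 3, 2, 0], [3, 1, 2, 3, 4, 3, 2, 1, 3]] i)

/-- The prefix conjugating a simple root to the i-th fundamental root of `rR`. -/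
def genP (i : Fin 3) : Word := wd (![[], [0, 2, 3, 4], [3, 1, 2, 3]] i)

/-- The node of the conjugated simple root. -/
def genJ (i : Fin 3) : Fin chevE6.rank := (![1, 5, 4] i : Fin 6)

/-- The words of the Weyl group of `rR`. -/
def wR : List (List (Fin 3)) := [[],
[0],
[1],
[2],
[0, 1],
[0, 2],
[1, 0],
[1, 2],
[2, 1],
[0, 1, 0],
[0, 1, 2],
[0, 2, 1],
[1, 0, 2],
[1, 2, 1],
[2, 1, 0],
[0, 1, 0, 2],
[0, 1, 2, 1],
[0, 2, 1, 0],
[1, 0, 2, 1],
[1, 2, 1, 0],
[0, 1, 0, 2, 1],
[0, 1, 2, 1, 0],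
[1, 0, 2, 1, 0],
[0, 1, 0, 2, 1, 0]]

/-- The word of a sequence in `genW`. -/
def seqW (s : List (Fin 3)) : Word := s.flatMap genW

/-- The four-cycle. -/
def wordC : Word := seqW [0, 1, 2]

/-- The reflection of the root 42. -/
def wordA : Word := wd [2]

/-- The twisting word. -/
def wordN : Word := wordA ++ wordC

/-- The words fusing the elements of the Sylow subgroup. -/
def fusW (i j : ZMod 5) : Word :=
  wd (([[],
[0, 3, 1, 2, 0, 3, 4, 5, 4, 3, 1, 2, 0, 3],
[0, 3, 4, 3, 1, 2, 3, 4, 5, 4, 3, 1, 2, 0, 3, 2],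
[0, 3, 4, 3, 1, 2, 3, 4, 5, 4, 3, 1, 2, 0, 3, 4],
[0, 3, 1, 2, 0, 3, 4, 5, 4, 3, 1, 2, 0, 3, 2, 4],
[],
[1, 4, 3, 2, 0, 5, 4, 3, 1, 2, 3, 4],
[0, 1, 3, 2, 4, 3, 1, 5, 4, 3],
[2, 3, 1, 2, 0, 3, 4, 3, 5, 4, 3, 1, 2],
[0, 3, 1, 2, 0, 4, 3, 1, 2, 0, 5],
[1, 3, 2, 4, 3, 1, 2],
[2, 3, 1, 2, 0, 3, 2, 4, 3, 1, 5, 4],
[0, 1, 2, 4, 3, 1, 2, 0, 5, 4, 3],
[3, 1, 2, 4, 3, 2, 0, 5, 4, 3, 1, 2],
[0, 1, 3, 1, 4, 5, 4, 3, 1, 2, 3],
[1, 2, 3, 2, 4, 3, 1],
[0, 1, 3, 4, 5, 4, 3, 1, 2, 3, 4],
[3, 1, 4, 3, 2, 0, 5, 4, 3, 1],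
[0, 1, 2, 4, 3, 1, 2, 0, 3, 5, 4, 3, 2],
[2, 3, 1, 2, 0, 3, 2, 4, 3, 1, 2, 5],
[2, 4],
[0, 3, 1, 2, 4, 3, 1, 2, 0, 5, 4],
[2, 3, 1, 2, 0, 3, 4, 5, 4, 3, 1],
[0, 1, 3, 1, 2, 4, 3, 1, 5, 4, 3, 2],
[1, 4, 3, 1, 2, 0, 5, 4, 3, 1, 2, 3]] : List (List (Fin 6))).getD (5 * i.val + j.val) [])

/-- The reversed basis used for identifying Weyl group elements. -/
def basis6 : List ℕ := [56, 37, 42, 60, 53, 46]

/-- Candidate images of a list of roots: same exponents, same pairings. -/
def stab : List ℕ → List (List ℕ)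
  | [] => [[]]
  | b :: bs => (stab bs).flatMap fun p => ((List.range chevE6.nroots).filter fun r =>
      decide (e1 r % 5 = e1 b % 5) && decide (p.map (prT r) = bs.map (prT b))).map (· :: p)

/-- The invariant modulo three of the images of `basis6`. -/
def invT (p : List ℕ) (k : Fin chevE6.rank) : ZMod 3 :=
  ((List.zipWith (fun m r => m * coT r k.val) ([-2, 0, 2, 4, -2, 2] : List ℤ) p).sum : ℤ)

/-- Twice a fundamental root in the basis `sS, 42, 37`. -/
def coef6 (k : Fin chevE6.rank) (m : Fin 6) : ℤ :=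
  (([[0, 0, -2, 0, 0, 0], [2, -2, 0, 0, 0, 0], [0, 0, 0, 0, 2, 0], [-1, 1, 1, -1, -1, -1], [0, 0, 0, 0, 0, 2], [1, 1, -1, 1, -1, -1]] : List (List ℤ)).getD k.val []).getD m.val 0

/-- The basis `sS, 42, 37`. -/
def six (m : Fin 6) : ℕ := ![52, 45, 15, 7, 42, 37] m


/-! ### Roots and the module -/

theorem rR_lt : ∀ r ∈ rR, r < chevE6.nroots := by decide +kernel

theorem rR_rhoT : ∀ r ∈ rR, rhoT r = r ∧ 71 - r ∈ rR := by decide +kernel

theorem rPos_iff : ∀ r ∈ rR, (36 ≤ r ↔ r ∈ rPos) := by decide +kernel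

theorem sS_lt : ∀ i, sS i < chevE6.nroots := by decide +kernel

theorem sS_inj : ∀ i j, sS i = sS j → i = j := by decide +kernel

theorem rR_ne : ∀ r ∈ rR, ∀ i, sS i ≠ r ∧ sS i ≠ 71 - r := by decide +kernel

theorem rR_chain : ∀ r ∈ rR, ∀ j : Fin 4, ∀ u < chevE6.nroots,
    ((chevE6.chainCoeff r (sS j) u).map fun km => (km.1, km.2.natAbs)) =
      if j = (pos r).2 ∧ u = sS (pos r).1 then [(1, 1)] else [] := by decide +kernel

theorem pos_surj : ∀ i j : Fin 4, i ≠ j → ∃ r ∈ rR, pos r = (i, j) := by decide +kernel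

theorem pos_ne : ∀ r ∈ rR, (pos r).1 ≠ (pos r).2 := by decide +kernel

theorem pos_upper : ∀ r ∈ rPos, (pos r).1 < (pos r).2 := by decide +kernel

theorem pos_inj : ∀ r ∈ rPos, ∀ s ∈ rPos, pos r = pos s → r = s := by decide +kernel

theorem pos_sum : ∀ r ∈ rPos, ∀ s ∈ rPos, (pos r).2 = (pos s).1 →
    s ≠ r ∧ ∃ τ ∈ chevE6.commTerms r s, pos τ.1 = ((pos r).1, (pos s).2) := by decide +kernel

theorem rR_orth : ∀ r ∈ rR, ∀ s ∈ ([42, 37, 29, 34] : List ℕ),
    chevE6.commTerms r s = [] ∧ s ≠ 71 - r := by decide +kernel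

theorem ab_orth : ∀ r ∈ ([42, 29] : List ℕ), ∀ s ∈ ([37, 34] : List ℕ),
    chevE6.commTerms r s = [] ∧ s ≠ 71 - r := by decide +kernel

theorem ab_rhoT : rhoT 42 = 37 ∧ rhoT 37 = 42 ∧ rhoT 29 = 34 ∧ rhoT 34 = 29 := by decide +kernel

theorem wordA_fixT : ∀ r ∈ ([37, 34] : List ℕ) ++ rR, wlT wordA r = r := by decide +kernel

theorem e1_zero : ∀ r < chevE6.nroots, 36 ≤ r → (e1 r % 5 = 0 ↔ r ∈ rPos) := by decide +kernel

theorem e1_R : ∀ r ∈ rR, e1 r % 5 = 0 := by decide +kernel

theorem e1_a : e1 42 % 5 = 2 ∧ e2 42 % 5 = 0 := by decide +kernel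

/-! ### The diagram symmetry -/

theorem wT_rho : ∀ i : Fin chevE6.rank, ∀ r < chevE6.nroots,
    wT (TwistE6D4.e6Twist.pi i).val (rhoT r) = rhoT (wT i.val r) := by decide +kernel

theorem rhoT_rhoT : ∀ r < chevE6.nroots, rhoT (rhoT r) = r ∧ (36 ≤ rhoT r ↔ 36 ≤ r) := by decide +kernel

/-- The ambient word of a node of the folded diagram. -/
def blockB (a : Fin 4) : Word := wd (![[1], [3], [2, 4], [0, 5]] a)

theorem block_casesT : ∀ j : Fin chevE6.rank, ∃ a : Fin 4, ∀ r < chevE6.nroots,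
    wlT (blockB a) r =
      wlT (if TwistE6D4.e6Twist.pi j = j then [j] else [TwistE6D4.e6Twist.pi j, j]) r := by decide +kernel

theorem pi_orthT : ∀ j : Fin chevE6.rank, TwistE6D4.e6Twist.pi j ≠ j →
    wT j.val (([56, 46, 42, 39, 37, 36] : List ℕ).getD (TwistE6D4.e6Twist.pi j).val 0) =
      ([56, 46, 42, 39, 37, 36] : List ℕ).getD (TwistE6D4.e6Twist.pi j).val 0 := by decide +kernel

theorem simple_rhoT : ∀ j : Fin chevE6.rank,
    rhoT (([56, 46, 42, 39, 37, 36] : List ℕ).getD j.val 0) =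
      ([56, 46, 42, 39, 37, 36] : List ℕ).getD (TwistE6D4.e6Twist.pi j).val 0 := by decide +kernel

theorem block_rhoT : ∀ a : Fin 4, ∀ r < chevE6.nroots,
    wlT (blockB a) (rhoT r) = rhoT (wlT (blockB a) r) := by decide +kernel

/-! ### The Weyl group of `rR` -/

theorem genW_eq : ∀ i, genW i = genP i ++ genJ i :: (genP i).reverse := by decide +kernel

theorem genP_rootT : ∀ i, wlT (genP i) (([56, 46, 42, 39, 37, 36] : List ℕ).getD (genJ i).val 0) ∈ rR ∧
    wlT (genP i) (71 - ([56, 46, 42, 39, 37, 36] : List ℕ).getD (genJ i).val 0) ∈ rR := by decide +kernel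

theorem wordC_sST : ∀ j : Fin 4, wlT wordC (sS j) = sS (j + 1) := by decide +kernel

theorem wT_coT : ∀ i : Fin chevE6.rank, ∀ r < chevE6.nroots, ∀ k : Fin chevE6.rank,
    coT (wT i.val r) k.val = coT r k.val - if k = i then caT i.val r else 0 := by decide +kernel

theorem caT_sum : ∀ i : Fin chevE6.rank, ∀ r < chevE6.nroots, caT i.val r =
    ∑ k : Fin chevE6.rank, coT r k.val * caT i.val (([56, 46, 42, 39, 37, 36] : List ℕ).getD k.val 0) := by
  decide +kernel

/-- The radical of the Cartan matrix modulo three. -/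
def radV (k : Fin chevE6.rank) : ZMod 3 := v6 ![2, 0, 1, 0, 2, 1] k

theorem radV_rad : ∀ i : Fin chevE6.rank,
    ∑ k : Fin chevE6.rank, radV k * (caT i.val (([56, 46, 42, 39, 37, 36] : List ℕ).getD k.val 0) : ZMod 3) = 0 := by
  decide +kernel

theorem radV_basis : ∀ k : Fin chevE6.rank, invT basis6 k = radV k := by decide +kernel

theorem stab_sub : ∀ p ∈ stab basis6, (∀ k, invT p k = radV k) →
    ∃ s ∈ wR, p = basis6.map (wlT (seqW s)) := by decide +kernel

theorem basis6_sepT : ∀ r < chevE6.nroots, ∀ s < chevE6.nroots,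
    basis6.map (prT r) = basis6.map (prT s) → r = s := by decide +kernel

theorem six_sepT : ∀ r < chevE6.nroots, ∀ s < chevE6.nroots,
    (∀ m, prT r (six m) = prT s (six m)) → r = s := by decide +kernel

theorem six_lt : ∀ m, six m < chevE6.nroots := by decide +kernel

theorem basis6_lt : ∀ b ∈ basis6, b < chevE6.nroots := by decide +kernel

theorem coef6_eq : ∀ k i : Fin chevE6.rank,
    2 * caT i.val (([56, 46, 42, 39, 37, 36] : List ℕ).getD k.val 0) =
    ∑ m : Fin 6, coef6 k m * caT i.val (six m) := by decide +kernel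

/-! ### The Sylow subgroup -/

theorem ev10 : ∀ r < chevE6.nroots, ev (vec 1 0) r = (e1 r : ZMod 5) := by decide +kernel

theorem ev01 : ∀ r < chevE6.nroots, ev (vec 0 1) r = (e2 r : ZMod 5) := by decide +kernel

theorem vec_fixT : ∀ i j : ZMod 5, ∀ r < chevE6.nroots,
    eN i j (wlT wordN (rhoT r)) = (2 * eN i j r) % 5 := by decide +kernel

theorem ex_fixT : ∀ r < chevE6.nroots, e1 (wlT wordA (rhoT r)) % 5 = (2 * e1 r) % 5 := by decide +kernel

theorem vec_injT : ∀ i j : ZMod 5, (∀ r < chevE6.nroots, eN i j r = 0) → i = 0 ∧ j = 0 := by decide +kernel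

theorem fus_commT : ∀ i j : ZMod 5, ∀ r < chevE6.nroots,
    wlT (wordN ++ piW (fusW i j)) r = wlT (fusW i j ++ wordN) r := by decide +kernel

theorem fus_moveT : ∀ i j : ZMod 5, ¬ (i = 0 ∧ j = 0) → ∀ r < chevE6.nroots,
    eN i j (wlT (fusW i j) r) = e1 r % 5 := by decide +kernel

end Cfsg.Agent.TwistE6Five
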