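import Cfsg.Agent.Lib.TwistE6Five.Base
import Cfsg.Agent.Lib.TwistE6D4.Results

/-!
# Toral elements of order five and the action of words on them

`tor ζ v` has value `ζ ^ ev v r` at the root `r`.  `tor_conj`, `Nw_tor`, `sg_tor`: its behaviour under root
elements, words and σ.
-/

set_option autoImplicit false
set_option linter.unusedSectionVars false

namespace Cfsg.Agent.TwistE6Five

open Cfsg.Lie Cfsg.Lie.ChevalleyDatum Cfsg.Agent.Chev Cfsg.Agent.ChevBN
open Cfsg.Agent.TwistE6D4 (theta chiX)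

variable {F : Type*} [Field F]

/-- The powers of `ζ` indexed by residues. -/
def pz (ζ : Fˣ) (x : ZMod 5) : Fˣ := ζ ^ x.val

variable {ζ : Fˣ} (hζ : orderOf ζ = 5)
include hζ

theorem pz_add (x y : ZMod 5) : pz ζ (x + y) = pz ζ x * pz ζ y := by
  rw [pz, pz, pz, ← pow_add, ZMod.val_add]
  conv_rhs => rw [← pow_mod_orderOf, hζ]

theorem pz_zero : pz ζ (0 : ZMod 5) = 1 := by simp [pz]

theorem pz_eq_one {x : ZMod 5} : pz ζ x = 1 ↔ x = 0 := by
  rw [pz, ← orderOf_dvd_iff_pow_eq_one, hζ]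
  exact ⟨fun h => (ZMod.val_eq_zero x).1 (Nat.eq_zero_of_dvd_of_lt h (ZMod.val_lt x)), fun h => by simp [h]⟩

theorem pz_inj {x y : ZMod 5} (h : pz ζ x = pz ζ y) : x = y := by
  have h1 : pz ζ (x - y) * pz ζ y = 1 * pz ζ y := by rw [← pz_add hζ, sub_add_cancel, one_mul, h]
  exact sub_eq_zero.1 ((pz_eq_one hζ).1 (mul_right_cancel h1))

/-- `pz` as a homomorphism. -/
def pzHom : Multiplicative (ZMod 5) →* Fˣ where
  toFun x := pz ζ x.toAdd
  map_one' := pz_zero hζ
  map_mul' x y := pz_add hζ x.toAdd y.toAdd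

theorem pz_zpow (x : ZMod 5) (n : ℤ) : pz ζ x ^ n = pz ζ (x * (n : ZMod 5)) := by
  have h := map_zpow (pzHom hζ) (Multiplicative.ofAdd x) n
  rw [show x * (n : ZMod 5) = n • x by rw [zsmul_eq_mul, mul_comm]]
  exact h.symm

theorem chiX_pz (v : Fin chevE6.rank → ZMod 5) (r : ℕ) : chiX (fun k => pz ζ (v k)) r = pz ζ (ev v r) := by
  have h := map_prod (pzHom hζ)
    (fun k : Fin chevE6.rank => Multiplicative.ofAdd (v k * (chevE6.cartan k.val r : ZMod 5))) Finset.univ
  rw [← ofAdd_sum] at h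
  show ∏ k, pz ζ (v k) ^ _ = _
  simp only [pz_zpow hζ]
  exact h.symm

omit hζ

/-- The toral element of an exponent vector. -/
def tor (ζ : Fˣ) (v : Fin chevE6.rank → ZMod 5) : GL chevE6.Idx F := theta chevE6 F fun k => pz ζ (v k)

theorem tor_mem_diag (v : Fin chevE6.rank → ZMod 5) : tor ζ v ∈ chevE6.diagonalSubgroup F :=
  TwistE6D4.theta_mem_diagonal gE6 _

set_option maxRecDepth 100000 in
theorem vec_addT : ∀ i j i' j' : ZMod 5, ∀ k : Fin chevE6.rank,
    vec (i + i') (j + j') k = vec i j k + vec i' j' k := by decide +kernel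

set_option maxRecDepth 100000 in
theorem vec_lin : ∀ i j : ZMod 5, ∀ k : Fin chevE6.rank, vec i j k = i * vec 1 0 k + j * vec 0 1 k := by
  decide +kernel

set_option maxRecDepth 100000 in
theorem vec_zero : ∀ k : Fin chevE6.rank, vec 0 0 k = 0 := by decide +kernel

theorem ev_add (v w : Fin chevE6.rank → ZMod 5) (r : ℕ) : ev (v + w) r = ev v r + ev w r := by
  simp [ev, add_mul, Finset.sum_add_distrib]

theorem vec_add (i j i' j' : ZMod 5) : vec (i + i') (j + j') = vec i j + vec i' j' := by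
  funext k
  exact vec_addT i j i' j' k

theorem ev_vec (i j : ZMod 5) {r : ℕ} (hr : r < chevE6.nroots) : ev (vec i j) r = (eN i j r : ZMod 5) := by
  have h : ev (vec i j) r = i * ev (vec 1 0) r + j * ev (vec 0 1) r := by
    simp only [ev, Finset.mul_sum, ← Finset.sum_add_distrib]
    refine Finset.sum_congr rfl fun k _ => ?_
    have hk : vec i j k = i * vec 1 0 k + j * vec 0 1 k := by
      exact vec_lin i j k
    rw [hk]; ring
  rw [h, ev10 r hr, ev01 r hr, eN, ZMod.natCast_mod, Nat.cast_add, Nat.cast_mul, Nat.cast_mul,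
    ZMod.natCast_zmod_val, ZMod.natCast_zmod_val]

theorem ex_eq {r : ℕ} (hr : r < chevE6.nroots) : ex r = (e1 r : ZMod 5) := ev10 r hr

include hζ

theorem tor_mul (i j i' j' : ZMod 5) :
    tor ζ (vec (i + i') (j + j')) = tor ζ (vec i j) * tor ζ (vec i' j') := by
  rw [tor, tor, tor, ← map_mul]
  congr 1
  funext k
  rw [Pi.mul_apply, vec_add, Pi.add_apply, pz_add hζ]

theorem tor_zero : tor ζ (vec 0 0) = 1 := by
  have h : (fun k => pz ζ (vec 0 0 k)) = (1 : Fin chevE6.rank → Fˣ) := by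
    funext k
    rw [vec_zero k, pz_zero hζ, Pi.one_apply]
  rw [tor, h, map_one]

theorem tor_conj (v : Fin chevE6.rank → ZMod 5) {r : ℕ} (hr : r < chevE6.nroots) (u : F) :
    tor ζ v * X r u * (tor ζ v)⁻¹ = X r ((pz ζ (ev v r) : F) * u) := by
  rw [X, tor, TwistE6D4.xg_eq gE6, TwistE6D4.theta_conj_gx gE6 _ hr, chiX_pz hζ]

theorem tor_scale (v : Fin chevE6.rank → ZMod 5) {r : ℕ} (hr : r < chevE6.nroots) (u : F) :
    tor ζ v * X r u = X r ((pz ζ (ev v r) : F) * u) * tor ζ v := by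
  rw [← tor_conj hζ v hr, inv_mul_cancel_right]

theorem tor_inj {i j : ZMod 5} (h : tor ζ (vec i j) = 1) : i = 0 ∧ j = 0 := by
  refine vec_injT i j fun r hr => ?_
  have h1 := tor_conj hζ (vec i j) hr (1 : F)
  rw [h, one_mul, inv_one, mul_one, mul_one] at h1
  have h2 : pz ζ (ev (vec i j) r) = 1 := Units.ext (X_inj_field hr h1).symm
  rw [pz_eq_one hζ, ev_vec i j hr, ZMod.natCast_eq_zero_iff] at h2
  exact Nat.eq_zero_of_dvd_of_lt h2 (Nat.mod_lt _ (by norm_num))
where
  X_inj_field {r : ℕ} (hr : r < chevE6.nroots) {a : F} (h : X r 1 = X r a) : (1 : F) = a := by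
    have : X r (1 + -a) = 1 := by
      simp only [X] at h ⊢
      rw [← xg_add gE6 hr, h, xg_add gE6 hr, add_neg_cancel, xg_zero]
    exact eq_of_add_neg_eq_zero (xg_eq_one gE6 hr this)

variable [CharP F 2]

/-- Words move the toral elements by their action on the roots. -/
theorem Nw_tor (l : Word) {v w : Fin chevE6.rank → ZMod 5}
    (h : ∀ r < chevE6.nroots, ev w (wlT l r) = ev v r) :
    Nw F l * tor ζ v * (Nw F l)⁻¹ = tor ζ w := by
  refine diag_ext ((Rd F).nw_conj_H l (tor_mem_diag v)) (tor_mem_diag w) fun r hr => ?_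
  have hq := wlT_lt l.reverse hr
  have hl := (wlT_reverse l hr).2
  calc _ = Nw F l * (tor ζ v * ((Nw F l.reverse) * X r 1 * (Nw F l.reverse)⁻¹) * (tor ζ v)⁻¹) * (Nw F l)⁻¹ := by
        rw [Nw_reverse]; simp only [Nw]; group
    _ = _ := by
        rw [Nw_conj _ hr, tor_conj hζ v hq, Nw_conj _ hq, hl, tor_conj hζ w hr]
        rw [← h _ hq, hl]

/-- σ doubles the exponents along the diagram symmetry. -/
theorem sg_tor {v w : Fin chevE6.rank → ZMod 5}
    (h : ∀ r < chevE6.nroots, ev w (rhoT r) = 2 * ev v r) : sg F (tor ζ v) = tor ζ w := by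
  refine diag_ext (sg_diag (tor_mem_diag v)) (tor_mem_diag w) fun r hr => ?_
  obtain ⟨hr2, -⟩ := rhoT_rhoT r hr
  have hq := rhoT_lt hr
  have e : sg F (X (rhoT r) (1 : F)) = X r 1 := by rw [sg_X hq, hr2, one_pow]
  calc sg F (tor ζ v) * X r 1 * (sg F (tor ζ v))⁻¹
      = sg F (tor ζ v * X (rhoT r) 1 * (tor ζ v)⁻¹) := by rw [map_mul, map_mul, map_inv, e]
    _ = X r (((pz ζ (ev v (rhoT r)) : F) * 1) ^ 2) := by rw [tor_conj hζ v hq, sg_X hq, hr2]
    _ = _ := by
        rw [tor_conj hζ w hr, mul_one, mul_one]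
        congr 1
        rw [show ev w r = ev w (rhoT (rhoT r)) by rw [hr2], h _ hq, two_mul, pz_add hζ, sq, Units.val_mul]

/-- The two conditions combined: σ followed by a word. -/
theorem Nw_sg_tor (l : Word) {v w : Fin chevE6.rank → ZMod 5}
    (h : ∀ r < chevE6.nroots, ev w (wlT l (rhoT r)) = 2 * ev v r) :
    Nw F l * sg F (tor ζ v) * (Nw F l)⁻¹ = tor ζ w := by
  have hH : Nw F l * sg F (tor ζ v) * (Nw F l)⁻¹ ∈ chevE6.diagonalSubgroup F :=
    (Rd F).nw_conj_H l (sg_diag (tor_mem_diag v))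
  refine diag_ext hH (tor_mem_diag w) fun r hr => ?_
  have hq := wlT_lt l.reverse hr
  have hq' := rhoT_lt hq
  obtain ⟨hq2, -⟩ := rhoT_rhoT _ hq
  have hl := (wlT_reverse l hr).2
  have e : sg F (X (rhoT (wlT l.reverse r)) (1 : F)) = X (wlT l.reverse r) 1 := by
    rw [sg_X hq', hq2, one_pow]
  calc _ = Nw F l * (sg F (tor ζ v) * ((Nw F l.reverse) * X r 1 * (Nw F l.reverse)⁻¹) * (sg F (tor ζ v))⁻¹) *
        (Nw F l)⁻¹ := by
        rw [Nw_reverse]; simp only [Nw]; group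
    _ = Nw F l * sg F (tor ζ v * X (rhoT (wlT l.reverse r)) 1 * (tor ζ v)⁻¹) * (Nw F l)⁻¹ := by
        rw [Nw_conj _ hr, map_mul, map_mul, map_inv, e]
    _ = _ := by
        rw [tor_conj hζ v hq', sg_X hq', hq2, Nw_conj _ hq, hl, tor_conj hζ w hr, mul_one, mul_one]
        congr 1
        have h' := h _ hq'
        rw [hq2, hl] at h'
        rw [h', two_mul, pz_add hζ, sq, Units.val_mul]

end Cfsg.Agent.TwistE6Five
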